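import Cfsg.Agent.BenderWorld.R1Kill.Line

/-!
# Locals with a four group (slice C of route 8)

What `IsR2` gives elementwise: the Sylow 2-subgroup at the point with central involutions and
transitive on the other points, odd elements inverted by an involution at their fixed point lying in
the core, and the members (a local with a moved normal `q`-subgroup).
See `docs/bender_R2_kill_helper89.md`.
-/

set_option autoImplicit false
set_option linter.style.haveILetI false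
set_option linter.unusedSectionVars false

namespace CfsgLib.BenderWorld.R2Kill

open Subgroup CfsgLib.SEmbed CfsgLib.Small CfsgLib.BenderWorld.R1Kill

variable {G : Type*} [Group G] [Finite G] {Ω : Type*} [MulAction G Ω] {M : Subgroup G} {c : Ω}

theorem smul_mem_orbit {g : G} (hg : g ∈ M) (x : Ω) : g • x ∈ MulAction.orbit M x := ⟨⟨g, hg⟩, rfl⟩

theorem exists_of_mem_orbit {x : Ω} (hx : x ∈ MulAction.orbit M c) : ∃ g ∈ M, g • c = x := by
  obtain ⟨⟨g, hg⟩, rfl⟩ := hx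
  exact ⟨g, hg, rfl⟩

theorem smul_mem_orbit_of_mem {g : G} (hg : g ∈ M) {x : Ω} (hx : x ∈ MulAction.orbit M c) :
    g • x ∈ MulAction.orbit M c := by
  obtain ⟨h, hh, rfl⟩ := exists_of_mem_orbit hx
  rw [smul_smul]
  exact smul_mem_orbit (mul_mem hg hh) c

theorem core_fix_orbit (hR : IsR2 M c) {o : G} (ho : o ∈ coreIn M) {x : Ω}
    (hx : x ∈ MulAction.orbit M c) : o • x = x := by
  obtain ⟨g, hg, rfl⟩ := exists_of_mem_orbit hx
  exact hR.core_fix o ho g hg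

theorem exists_ne_mem_orbit (hR : IsR2 M c) : ∃ d ∈ MulAction.orbit M c, d ≠ c := by
  by_contra h
  push Not at h
  obtain ⟨k, -, hcard⟩ := hR.degree
  have h1 : MulAction.orbit M c = {c} := Set.eq_singleton_iff_unique_mem.2
    ⟨MulAction.mem_orbit_self c, h⟩
  rw [h1, Nat.card_coe_set_eq, Set.ncard_singleton] at hcard
  have := Nat.one_le_two_pow (n := k)
  omega

/-- The part at `c` of an `IsR2` local. -/
structure Sys (M : Subgroup G) (c : Ω) (S : Subgroup G) : Prop where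
  pgroup : IsPGroup 2 S
  le : S ≤ M
  fix : ∀ g ∈ S, g • c = c
  four : ∃ V ≤ S, IsFour V
  core : ∀ g ∈ S, g ∈ coreIn M → g = 1
  central : ∀ i ∈ S, orderOf i = 2 → ∀ g ∈ S, Commute g i
  trans : ∀ x ∈ MulAction.orbit M c, ∀ y ∈ MulAction.orbit M c, x ≠ c → y ≠ c →
    ∃ g ∈ S, g • x = y
  cover : ∀ g ∈ M, g • c = c → ∀ n : ℕ, g ^ 2 ^ n ∈ coreIn M → ∃ s ∈ S, s⁻¹ * g ∈ coreIn M
  normal : ∀ g ∈ M, g • c = c → ∃ o ∈ coreIn M, o * g ∈ normalizer (S : Set G)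

theorem exists_sys (hR : IsR2 M c) {V : Subgroup G} (hV : IsFour V) (hVM : V ≤ M)
    (hVc : ∀ v ∈ V, v • c = c) : ∃ S : Subgroup G, V ≤ S ∧ Sys M c S := by
  classical
  haveI : Fact (Nat.Prime 2) := ⟨Nat.prime_two⟩
  obtain ⟨U, hOU, hUle, hUn, hU2, hUel, hUtr, hUc⟩ := hR.twoClosed
  have hVU : V ≤ U := fun v hv => hUel v ⟨hVM hv, hVc v hv⟩ 1
    (by rw [pow_one, sq, hV.2 v hv]; exact one_mem _)
  obtain ⟨P, hP⟩ := (hV.isPGroup.of_equiv (subgroupOfEquivOfLe hVU).symm).exists_le_sylow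
  set S := (P : Subgroup U).map U.subtype with hS
  have hSU : S ≤ U := map_subtype_le _
  have hS2 : IsPGroup 2 S := P.isPGroup'.map _
  have hcore : ∀ g ∈ S, g ∈ coreIn M → g = 1 := by
    intro g hg hgO
    obtain ⟨k, hk⟩ := hS2 ⟨g, hg⟩
    have hk' : g ^ 2 ^ k = 1 := congrArg Subtype.val hk
    exact orderOf_eq_one_iff.1 (Nat.eq_one_of_dvd_coprimes
      (Nat.Coprime.pow_left k (Nat.coprime_two_left.2 (R1Kill.odd_coreIn M)))
      (orderOf_dvd_of_pow_eq_one hk') (orderOf_dvd_natCard _ hgO))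
  haveI hOn : ((coreIn M).subgroupOf U).Normal :=
    (normal_subgroupOf_iff_le_normalizer hOU).2
      ((hUle.trans inf_le_left).trans (le_normalizer_coreIn M))
  set π := QuotientGroup.mk' ((coreIn M).subgroupOf U)
  have hq : IsPGroup 2 (↥U ⧸ (coreIn M).subgroupOf U) := by
    intro z
    obtain ⟨u, rfl⟩ := QuotientGroup.mk'_surjective _ z
    obtain ⟨n, hn⟩ := hU2 u u.2
    exact ⟨n, by rw [← map_pow]; exact (QuotientGroup.eq_one_iff _).2 hn⟩
  -- `U = S * O`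
  have hdec : ∀ u ∈ U, ∃ s ∈ S, s⁻¹ * u ∈ coreIn M ∧ u * s⁻¹ ∈ coreIn M := by
    intro u hu
    have htop := (P.mapSurjective (QuotientGroup.mk'_surjective
      ((coreIn M).subgroupOf U))).is_maximal' (hq.to_subgroup ⊤) le_top
    have h1 : π ⟨u, hu⟩ ∈
        (P.mapSurjective (QuotientGroup.mk'_surjective ((coreIn M).subgroupOf U)) : Subgroup _) :=
      htop ▸ mem_top _
    obtain ⟨s, hs, hsu⟩ := h1
    have h2 : (s : G)⁻¹ * u ∈ coreIn M :=
      mem_subgroupOf.1 ((QuotientGroup.eq (s := (coreIn M).subgroupOf U)).1 hsu)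
    refine ⟨s, ⟨s, hs, rfl⟩, h2, ?_⟩
    rw [show u * (s : G)⁻¹ = s * ((s : G)⁻¹ * u) * (s : G)⁻¹ by group]
    exact conj_normal_mem (le_normalizer_coreIn M (hUle s.2).1) h2
  refine ⟨S, fun v hv => ⟨⟨v, hVU hv⟩, hP hv, rfl⟩, hS2, fun g hg => (hUle (hSU hg)).1,
    fun g hg => (hUle (hSU hg)).2, ⟨V, fun v hv => ⟨⟨v, hVU hv⟩, hP hv, rfl⟩, hV⟩, hcore, ?_, ?_,
    ?_, ?_⟩
  · intro i hi hio g hg
    have h1 := hUc g (hSU hg) i (hSU hi) hio
    have h2 : g * i * g⁻¹ * i⁻¹ ∈ S := mul_mem (mul_mem (mul_mem hg hi) (inv_mem hg)) (inv_mem hi)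
    have h3 := hcore _ h2 h1
    rw [mul_inv_eq_one] at h3
    exact commute_of_conj_eq h3
  · intro x hx y hy hxc hyc
    obtain ⟨u, hu, hux⟩ := hUtr x hx y hy hxc hyc
    obtain ⟨s, hs, hsu, -⟩ := hdec u hu
    refine ⟨s, hs, ?_⟩
    rw [← hux, show u • x = s • (s⁻¹ * u) • x by rw [smul_smul, mul_inv_cancel_left],
      core_fix_orbit hR hsu hx]
  · intro g hg hgc n hn
    obtain ⟨s, hs, hsg, -⟩ := hdec g (hUel g ⟨hg, hgc⟩ n hn)
    exact ⟨s, hs, hsg⟩
  · intro g hg hgc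
    have hle : S.map (MulAut.conj g).toMonoidHom ≤ U := by
      rintro _ ⟨s, hs, rfl⟩
      exact hUn g ⟨hg, hgc⟩ s (hSU hs)
    have hScard : Nat.card S = 2 ^ (Nat.card U).factorization 2 := by
      rw [hS, card_map_of_injective U.subtype_injective, P.card_eq_multiplicity]
    obtain ⟨l, hl, hlS⟩ := CfsgLib.AbelSolvCent.exists_conj_of_card_eq (p := 2) hle hSU
      (by rw [← Nat.card_congr (S.equivMapOfInjective (MulAut.conj g).toMonoidHom
        (MulAut.conj g).injective).toEquiv, hScard]) hScard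
    obtain ⟨s, hs, -, hsl⟩ := hdec l hl
    refine ⟨(l * s⁻¹)⁻¹, inv_mem hsl, ?_⟩
    have hlg : l⁻¹ * g ∈ normalizer (S : Set G) := by
      refine mem_normalizer_of_conj fun y hy => ?_
      obtain ⟨z, hz, hzy⟩ : g * y * g⁻¹ ∈ S.map (MulAut.conj l).toMonoidHom :=
        hlS ▸ ⟨y, hy, rfl⟩
      have hzy' : l * z * l⁻¹ = g * y * g⁻¹ := hzy
      rw [show l⁻¹ * g * y * (l⁻¹ * g)⁻¹ = l⁻¹ * (g * y * g⁻¹) * l by group, ← hzy',
        show l⁻¹ * (l * z * l⁻¹) * l = z by group]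
      exact hz
    rw [show (l * s⁻¹)⁻¹ * g = s * (l⁻¹ * g) by group]
    exact mul_mem (le_normalizer hs) hlg

/-- An odd element fixing `c` and inverted by an involution at `c` lies in the core. -/
theorem inverted_mem_core (hR : IsR2 M c) {s y : G} (hs : s ∈ invMap (G := G) c c) (hsM : s ∈ M)
    (hyM : y ∈ M) (hyc : y • c = c) (hy : s * y * s⁻¹ = y⁻¹) (hodd : Odd (orderOf y)) :
    y ∈ coreIn M := by
  obtain ⟨U, -, -, hUn, hU2, hUel, -, -⟩ := hR.twoClosed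
  have hsU : s ∈ U := hUel s ⟨hsM, hs.2⟩ 1
    (by rw [pow_one, sq, mul_self_of_orderOf_two hs.1]; exact one_mem _)
  have h2 : y ^ 2 ∈ U := by
    rw [show y ^ 2 = y * (s * y * s⁻¹)⁻¹ by rw [hy, inv_inv, sq],
      show y * (s * y * s⁻¹)⁻¹ = y * s * y⁻¹ * s⁻¹ by group]
    exact mul_mem (hUn y ⟨hyM, hyc⟩ s hsU) (inv_mem hsU)
  obtain ⟨n, hn⟩ := hU2 _ h2
  rw [← pow_mul, mul_comm, ← pow_succ] at hn
  obtain ⟨m, hm⟩ := exists_pow_eq_self_of_coprime (x := y) (n := 2 ^ (n + 1))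
    ((Nat.coprime_two_left.2 hodd).pow_left _)
  rw [← hm]
  exact pow_mem hn m

/-- An `IsR1` local has no four group at a point it moves. -/
theorem not_r1 (huf : UniqueFix G Ω) (h1 : IsR1 M) {V : Subgroup G} (hV : IsFour V) (hVM : V ≤ M)
    {x : Ω} (hVx : ∀ v ∈ V, v • x = x) (hmov : ∃ g ∈ M, g • x ≠ x) : False := by
  obtain ⟨v, hv, hvo⟩ := hV.exists_invol
  obtain ⟨g, hg, hgx⟩ := hmov
  obtain ⟨o, ho, e, -, hev, rfl⟩ := h1 v (hVM hv) hvo g hg
  refine hgx ?_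
  rw [mul_smul, commute_fix huf hvo hev (hVx v hv)]
  exact le_stabilizer_of_four huf hV (fun w hw => hVx w hw) (R1Kill.odd_coreIn M)
    (hVM.trans (le_normalizer_coreIn M)) ho

theorem isR2_at (W : World G Ω) (hM : M ≠ ⊤) {V : Subgroup G} (hV : IsFour V) (hVM : V ≤ M)
    {x : Ω} (hVx : ∀ v ∈ V, v • x = x) (hmov : ∃ g ∈ M, g • x ≠ x) : IsR2 M x := by
  obtain ⟨v, hv, hvo⟩ := hV.exists_invol
  exact (W.ih M hM x ⟨v, hVM hv, hvo, hVx v hv⟩ hmov).resolve_left fun h1 =>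
    not_r1 W.uf h1 hV hVM hVx hmov

theorem exists_mover (hR : IsR2 M c) : ∃ g ∈ M, g • c ≠ c := by
  obtain ⟨d, hd, hdc⟩ := exists_ne_mem_orbit hR
  obtain ⟨g, hg, rfl⟩ := exists_of_mem_orbit hd
  exact ⟨g, hg, hdc⟩

theorem exists_invol_at (hR : IsR2 M c) : ∃ v ∈ M, v ∈ invMap (G := G) c c := by
  obtain ⟨V, hVM, hV, hVc⟩ := hR.four
  obtain ⟨v, hv, hvo⟩ := hV.exists_invol
  exact ⟨v, hVM hv, hvo, hVc v hv⟩

/-- All involutions of `M` are conjugate in `M`. -/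
theorem exists_conj (huf : UniqueFix G Ω) (hR : IsR2 M c) {i j : G} (hi : i ∈ M) (hj : j ∈ M)
    (hio : orderOf i = 2) (hjo : orderOf j = 2) : ∃ m ∈ M, m * i * m⁻¹ = j := by
  obtain ⟨v, hvM, hv⟩ := exists_invol_at hR
  obtain ⟨g, hg, hgc⟩ := exists_mover hR
  exact SEmbed.isConj_in huf hvM (mul_mem (mul_mem hg hvM) (inv_mem hg)) hv.1
    ((orderOf_conj_eq g v).trans hv.1) hv.2
    (show (g * v * g⁻¹) • g • c = g • c by rw [mul_smul, inv_smul_smul, mul_smul, hv.2])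
    (Ne.symm hgc) hi hj hio hjo

theorem centre_mem_orbit (huf : UniqueFix G Ω) (hR : IsR2 M c) {i : G} (hi : i ∈ M) {e : Ω}
    (he : i ∈ invMap (G := G) e e) : e ∈ MulAction.orbit M c := by
  obtain ⟨v, hvM, hv⟩ := exists_invol_at hR
  obtain ⟨m, hm, rfl⟩ := exists_conj huf hR hvM hi hv.1 he.1
  have h : (m * v * m⁻¹) • m • c = m • c := by rw [mul_smul, inv_smul_smul, mul_smul, hv.2]
  exact huf.unique _ he.1 _ _ h he.2 ▸ smul_mem_orbit hm c

/-- A four group of `M` at any point of the orbit. -/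
theorem exists_four_at (hR : IsR2 M c) {x : Ω} (hx : x ∈ MulAction.orbit M c) :
    ∃ V ≤ M, IsFour V ∧ ∀ v ∈ V, v • x = x := by
  obtain ⟨g, hg, rfl⟩ := exists_of_mem_orbit hx
  obtain ⟨V, hVM, hV, hVc⟩ := hR.four
  refine ⟨V.map (MulAut.conj g).toMonoidHom, ?_, ⟨?_, ?_⟩, ?_⟩
  · rintro _ ⟨v, hv, rfl⟩
    exact mul_mem (mul_mem hg (hVM hv)) (inv_mem hg)
  · rw [← Nat.card_congr (V.equivMapOfInjective (MulAut.conj g).toMonoidHom
      (MulAut.conj g).injective).toEquiv, hV.1]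
  · rintro _ ⟨v, hv, rfl⟩
    rw [← map_mul, hV.2 v hv, map_one]
  · rintro _ ⟨v, hv, rfl⟩
    show (g * v * g⁻¹) • g • c = g • c
    rw [mul_smul, inv_smul_smul, mul_smul, hVc v hv]

/-- An involution of `M` interchanging `c` and another point of the orbit. -/
theorem exists_swap_mem (huf : UniqueFix G Ω) (hR : IsR2 M c) {d : Ω}
    (hd : d ∈ MulAction.orbit M c) (hdc : d ≠ c) : ∃ w ∈ M, w ∈ invMap (G := G) c d := by
  obtain ⟨s, hsM, hs⟩ := exists_invol_at hR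
  obtain ⟨g, hg, rfl⟩ := exists_of_mem_orbit hd
  obtain ⟨t, ht⟩ : ∃ t, t = g * s * g⁻¹ := ⟨_, rfl⟩
  have hto : orderOf t = 2 := ht ▸ (orderOf_conj_eq g s).trans hs.1
  have htd : t • g • c = g • c := by rw [ht, mul_smul, inv_smul_smul, mul_smul, hs.2]
  have htM : t ∈ M := ht ▸ mul_mem (mul_mem hg hsM) (inv_mem hg)
  obtain ⟨k, hk⟩ := conj_pow_eq_of_odd hs.1 hto (odd_mul huf hs.1 hto hs.2 htd (Ne.symm hdc))
  set z := (s * t) ^ k
  have hzM : z ∈ M := pow_mem (mul_mem hsM htM) k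
  have hzs : s * z * s = z⁻¹ := by
    have := invol_conj_pow (invol_conj_mul hs.1 hto) k
    rwa [inv_eq_self_of_orderOf_two hs.1] at this
  have hzd : z • c = g • c := huf.unique t hto _ _
    (by rw [← hk, mul_smul, inv_smul_smul, mul_smul, hs.2]) htd
  refine ⟨z * s, mul_mem hzM hsM, ⟨orderOf_eq_prime ?_ fun h1 => hdc ?_, by
    rw [mul_smul, hs.2, hzd]⟩⟩
  · rw [sq, show z * s * (z * s) = z * (s * z * s) by group, hzs, mul_inv_cancel]
  · rw [← hzd, eq_inv_of_mul_eq_one_left h1, inv_eq_self_of_orderOf_two hs.1, hs.2]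

theorem le_normalizer_orbitStab (M : Subgroup G) (c : Ω) :
    M ≤ normalizer (fixingSubgroup G (MulAction.orbit M c) : Set G) := by
  intro m hm
  refine mem_normalizer_of_conj fun g hg => (mem_fixingSubgroup_iff G).2 fun x hx => ?_
  exact conj_fix ((mem_fixingSubgroup_iff G).1 hg _ (smul_mem_orbit_of_mem (inv_mem hm) hx))

/-- What is trivial on the orbit lies in the core. -/
theorem mem_core_of_fix_orbit (huf : UniqueFix G Ω) (hR : IsR2 M c) {g : G} (hg : g ∈ M)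
    (hfix : ∀ x ∈ MulAction.orbit M c, g • x = x) : g ∈ coreIn M := by
  refine le_coreIn (N := M ⊓ fixingSubgroup G (MulAction.orbit M c)) inf_le_left
    ((le_inf le_normalizer (le_normalizer_orbitStab M c)).trans inf_normalizer_le_normalizer_inf) ?_
    (mem_inf.2 ⟨hg, (mem_fixingSubgroup_iff G).2 hfix⟩)
  rw [← Nat.not_even_iff_odd]
  intro he
  obtain ⟨i, hi, hio⟩ := exists_invol_mem he
  obtain ⟨d, hd, hdc⟩ := exists_ne_mem_orbit hR
  exact hdc (huf.unique i hio _ _ ((mem_fixingSubgroup_iff G).1 (mem_inf.1 hi).2 d hd)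
    ((mem_fixingSubgroup_iff G).1 (mem_inf.1 hi).2 c (MulAction.mem_orbit_self c)))

end CfsgLib.BenderWorld.R2Kill
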