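import Cfsg.Agent.BenderWorld.R2Kill.Member
import Cfsg.Agent.BenderWorld.R1Kill.Bad

/-!
# Eigenelements of a four group

An element inverted by one and centralized by another involution of a four group at `x` has a
normalizer fixing `x`; a `q'`-group normalized by such an element inside the normalizer of a
nontrivial subgroup that the four group normalizes fixes `x` as well.
-/

set_option autoImplicit false
set_option linter.style.haveILetI false
set_option linter.unusedSectionVars false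

namespace CfsgLib.BenderWorld.R2Kill

open Subgroup CfsgLib.SEmbed CfsgLib.Small CfsgLib.BenderWorld.R1Kill

variable {G : Type*} [Group G] [Finite G] {Ω : Type*} [MulAction G Ω] {q : ℕ}

/-- An element inverted and centralized, but not trivially, by a four group at `x`. -/
structure Eigen (q : ℕ) (V : Subgroup G) (x : Ω) (y : G) : Prop where
  four : IsFour V
  fix : ∀ v ∈ V, v • x = x
  ne : y ≠ 1
  fixes : y • x = x
  isPGroup : IsPGroup q (zpowers y)
  odd : Odd (orderOf y)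
  inverted : ∃ s ∈ V, s * y * s⁻¹ = y⁻¹
  centralized : ∃ u ∈ V, u ≠ 1 ∧ Commute y u

theorem eq_one_of_inverted_commute {v y : G} (hc : Commute y v) (hv : v * y * v⁻¹ = y⁻¹)
    (hodd : Odd (orderOf y)) : y = 1 := by
  rw [conj_eq_of_commute hc.symm] at hv
  have h2 : y ^ 2 = 1 := by rw [sq]; exact mul_eq_one_iff_eq_inv.2 hv
  exact orderOf_eq_one_iff.1 (Nat.eq_one_of_dvd_coprimes
    (Nat.coprime_two_left.2 hodd) (orderOf_dvd_of_pow_eq_one h2) dvd_rfl)

theorem mem_normalizer_zpowers {v a : G} (h : Commute a v ∨ v * a * v⁻¹ = a⁻¹) :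
    v ∈ normalizer (zpowers a : Set G) := by
  refine mem_normalizer_of_conj fun z hz => ?_
  obtain ⟨j, rfl⟩ := mem_zpowers_iff.1 hz
  rw [← conj_zpow]
  rcases h with h | h
  · rw [conj_eq_of_commute h.symm]; exact zpow_mem (mem_zpowers a) j
  · rw [h, inv_zpow]; exact inv_mem (zpow_mem (mem_zpowers a) j)

namespace Eigen

variable {V : Subgroup G} {x : Ω} {y : G}

theorem normalizer_fix (W : World G Ω) (he : Eigen q V x y) :
    ∀ g ∈ normalizer (zpowers y : Set G), g • x = x := by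
  obtain ⟨hV, hVx, hy1, hyx, -, hodd, ⟨s, hs, hsy⟩, u, hu, hu1, huy⟩ := he
  by_contra hcon
  push Not at hcon
  have hs1 : s ≠ 1 := fun h => hy1 (eq_one_of_inverted_commute
    (h ▸ Commute.one_right y : Commute y s) hsy hodd)
  have hsu : s ≠ u := fun h => hy1 (eq_one_of_inverted_commute (h ▸ huy) hsy hodd)
  have hso := hV.orderOf_eq_two hs hs1
  have huo := hV.orderOf_eq_two hu hu1
  have hgen : closure ({s, u} : Set G) = V := by
    refine eq_of_le_of_card_ge ((closure_le _).2 ?_) ?_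
    · rintro z (rfl | rfl)
      exacts [hs, hu]
    · rw [hV.1, (isFour_closure_pair hso huo hsu (hV.commute hs hu)).1]
  have hVN : V ≤ normalizer (zpowers y : Set G) := by
    rw [← hgen, closure_le]
    rintro z (rfl | rfl)
    exacts [mem_normalizer_zpowers (Or.inr hsy), mem_normalizer_zpowers (Or.inl huy)]
  have hfix : ∀ t ∈ zpowers y, t • x = x := fun t ht =>
    (zpowers_le.2 (show y ∈ MulAction.stabilizer G x from hyx)) ht
  have hR := isR2_at W (normalizer_ne_top W (zpowers_ne_bot.2 hy1) hfix) hV hVN hVx hcon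
  obtain ⟨m, hm, hms⟩ := exists_conj W.uf hR (hVN hs) (hVN hu) hso huo
  have hmy : m * y * m⁻¹ ∈ zpowers y := conj_normal_mem hm (mem_zpowers y)
  obtain ⟨j, hj⟩ := mem_zpowers_iff.1 hmy
  refine hy1 ((conj_eq_one_iff (a := m)).1 (eq_one_of_inverted_commute (v := u) ?_ ?_ ?_))
  · rw [← hj]; exact huy.zpow_left j
  · calc u * (m * y * m⁻¹) * u⁻¹ = m * (s * y * s⁻¹) * m⁻¹ := by rw [← hms]; group
      _ = (m * y * m⁻¹)⁻¹ := by rw [hsy]; group
  · rw [orderOf_conj_eq]; exact hodd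

/-- A `q'`-group in `N(E₀)` normalized by an eigenelement fixes `x`. -/
theorem fix_of_normalizes [Fact q.Prime] (W : World G Ω) (he : Eigen q V x y) {E₀ : Subgroup G}
    (hE0 : E₀ ≠ ⊥) (hE0x : ∀ e ∈ E₀, e • x = x) (hVE : V ≤ normalizer (E₀ : Set G))
    (hyE : y ∈ normalizer (E₀ : Set G)) {U : Subgroup G} (hUE : U ≤ normalizer (E₀ : Set G))
    (hyU : y ∈ normalizer (U : Set G)) (hU : ¬ q ∣ Nat.card U) : ∀ g ∈ U, g • x = x := by
  intro g hg
  by_cases hmov : ∃ k ∈ normalizer (E₀ : Set G), k • x ≠ x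
  swap
  · push Not at hmov
    exact hmov g (hUE hg)
  have hR := isR2_at W (normalizer_ne_top W hE0 hE0x) he.four hVE he.fix hmov
  set N := normalizer (E₀ : Set G)
  obtain ⟨s, hs, hsy⟩ := he.inverted
  have hs1 : s ≠ 1 := fun h => he.ne (eq_one_of_inverted_commute
    (h ▸ Commute.one_right y : Commute y s) hsy he.odd)
  have hyO : y ∈ coreIn N := inverted_mem_core hR
    ⟨he.four.orderOf_eq_two hs hs1, he.fix s hs⟩ (hVE hs) hyE he.fixes hsy he.odd
  set L := U ⊓ coreIn N with hL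
  have hcard : Nat.card {z : G | z * g⁻¹ ∈ L} = Nat.card L :=
    Nat.card_congr ⟨fun z => ⟨_, z.2⟩,
      fun l => ⟨l * g, by rw [Set.mem_ofPred_eq, mul_inv_cancel_right]; exact l.2⟩,
      fun z => Subtype.ext (inv_mul_cancel_right _ _),
      fun l => Subtype.ext (mul_inv_cancel_right _ _)⟩
  obtain ⟨z, hz, hzy⟩ := exists_fixed_conj he.isPGroup (s := {z : G | z * g⁻¹ ∈ L})
    (hcard ▸ fun hd => hU (hd.trans (card_dvd_of_le inf_le_left))) fun a ha z hz => by
      have hzU : z ∈ U := by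
        have := mul_mem hz.1 hg
        rwa [inv_mul_cancel_right] at this
      have haO : a ∈ coreIn N := zpowers_le.2 hyO ha
      have haU : a ∈ normalizer (U : Set G) := zpowers_le.2 hyU ha
      show a * z * a⁻¹ * g⁻¹ ∈ L
      rw [show a * z * a⁻¹ * g⁻¹ = a * z * a⁻¹ * z⁻¹ * (z * g⁻¹) by group]
      refine mul_mem (mem_inf.2 ⟨mul_mem (conj_normal_mem haU hzU) (inv_mem hzU), ?_⟩) hz
      rw [mul_assoc, mul_assoc, ← mul_assoc z]
      exact mul_mem haO (conj_normal_mem (le_normalizer_coreIn N (hUE hzU)) (inv_mem haO))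
  have h1 : z • x = x := he.normalizer_fix W z
    (centralizer_mem_normalizer fun t ht => (hzy t ht).symm)
  have h2 : (z * g⁻¹) • x = x := core_fix_orbit hR hz.2 (MulAction.mem_orbit_self x)
  calc g • x = (z * g⁻¹)⁻¹ • z • x := by rw [smul_smul]; congr 1; group
    _ = x := by rw [h1, inv_smul_eq_iff.2 h2.symm]

end Eigen

/-- A four group at a point of the orbit containing a given involution. -/
theorem exists_four_containing (huf : UniqueFix G Ω) {M : Subgroup G} {c : Ω} (hR : IsR2 M c)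
    {i : G} (hi : i ∈ M) (hio : orderOf i = 2) :
    ∃ x ∈ MulAction.orbit M c, ∃ V ≤ M, IsFour V ∧ (∀ v ∈ V, v • x = x) ∧ i ∈ V := by
  obtain ⟨V, hVM, hV, hVc⟩ := hR.four
  obtain ⟨v, hv, hvo⟩ := hV.exists_invol
  obtain ⟨m, hm, rfl⟩ := exists_conj huf hR (hVM hv) hi hvo hio
  refine ⟨m • c, smul_mem_orbit hm c, V.map (MulAut.conj m).toMonoidHom, ?_, ⟨?_, ?_⟩, ?_,
    ⟨v, hv, rfl⟩⟩
  · rintro _ ⟨v, hv, rfl⟩
    exact mul_mem (mul_mem hm (hVM hv)) (inv_mem hm)
  · rw [← Nat.card_congr (V.equivMapOfInjective (MulAut.conj m).toMonoidHom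
      (MulAut.conj m).injective).toEquiv, hV.1]
  · rintro _ ⟨v, hv, rfl⟩
    rw [← map_mul, hV.2 v hv, map_one]
  · rintro _ ⟨v, hv, rfl⟩
    show (m * v * m⁻¹) • m • c = m • c
    rw [mul_smul, inv_smul_smul, mul_smul, hVc v hv]

/-- Each involution of a four group of `M` inverts an eigenelement of order `q` in `T`. -/
theorem Member.exists_eigen [Fact q.Prime] (hq : q ≠ 2) {M T : Subgroup G} {c d : Ω}
    (h : Member q M T c d) {V : Subgroup G} (hVM : V ≤ M) (hV : IsFour V) {x : Ω}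
    (hx : x ∈ MulAction.orbit M c) (hVx : ∀ v ∈ V, v • x = x) {s : G} (hs : s ∈ V)
    (hso : orderOf s = 2) :
    ∃ y ∈ T, orderOf y = q ∧ Eigen q V x y ∧ s * y * s⁻¹ = y⁻¹ := by
  have hTodd := odd_of_isPGroup Fact.out hq h.isPGroup
  haveI := hV.isMulCommutative
  obtain ⟨t, ht, hts⟩ := h.moved s (hVM hs) hso
  obtain ⟨u, hu, hu1, f, hf, hfu, hfs⟩ : ∃ u ∈ V, u ≠ 1 ∧ ∃ f ∈ T,
      Commute f u ∧ ¬ Commute f s := by
    by_contra hcon
    push Not at hcon
    have hle : T ≤ centralizer ({s} : Set G) :=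
      CfsgLib.Coprime.le_of_forall_inf_centralizer_le hV.not_isCyclic (hVM.trans h.normal)
        (by rw [hV.1]; exact (Nat.coprime_two_left.2 hTodd).pow_left 2)
        fun u hu hu1 z hz => mem_centralizer_singleton_iff.2
          (hcon u hu hu1 z hz.1 (mem_centralizer_singleton_iff.1 hz.2)).eq
    exact hts (mem_centralizer_singleton_iff.1 (hle ht))
  set F := T ⊓ centralizer ({u} : Set G) with hF
  have hsF : s ∈ normalizer (F : Set G) := mem_normalizer_of_conj fun z hz =>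
    mem_inf.2 ⟨conj_normal_mem (h.normal (hVM hs)) hz.1, mem_centralizer_singleton_iff.2
      ((((hV.commute hs hu).mul_left
        (mem_centralizer_singleton_iff.1 hz.2 : Commute z u)).mul_left
          (hV.commute hs hu).inv_left)).eq⟩
  have hfF : f ∈ F := mem_inf.2 ⟨hf, mem_centralizer_singleton_iff.2 hfu.eq⟩
  obtain ⟨w, hw, e, -, hws, hes, rfl⟩ := exists_decomp
    (hTodd.of_dvd_nat (card_dvd_of_le inf_le_left)) (mul_self_of_orderOf_two hso) hsF hfF
  have hw1 : w ≠ 1 := fun h1 => hfs (by rw [h1, one_mul]; exact hes)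
  obtain ⟨k, hk⟩ := h.isPGroup.to_le (zpowers_le.2 hw.1) ⟨w, mem_zpowers w⟩
  have hk' : w ^ q ^ k = 1 := congrArg Subtype.val hk
  obtain ⟨j, -, hj⟩ := (Nat.dvd_prime_pow Fact.out).1 (orderOf_dvd_of_pow_eq_one hk')
  have hj0 : j ≠ 0 := fun h0 => hw1 (orderOf_eq_one_iff.1 (by rw [hj, h0, pow_zero]))
  have hyo : orderOf (w ^ (orderOf w / q)) = q :=
    orderOf_pow_orderOf_div (orderOf_pos w).ne' (hj ▸ dvd_pow_self q hj0)
  refine ⟨w ^ (orderOf w / q), pow_mem hw.1 _, hyo, ⟨hV, hVx, ?_, ?_, ?_, ?_, ⟨s, hs, ?_⟩,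
    u, hu, hu1, ?_⟩, conj_pow_inv hws _⟩
  · intro h1
    rw [h1, orderOf_one] at hyo
    exact (Fact.out : q.Prime).ne_one hyo.symm
  · exact core_fix_orbit h.r2 (h.le_core hq (pow_mem hw.1 _)) hx
  · exact h.isPGroup.to_le (zpowers_le.2 (pow_mem hw.1 _))
  · rw [hyo]; exact (Fact.out : q.Prime).odd_of_ne_two hq
  · exact conj_pow_inv hws _
  · exact (show Commute w u from mem_centralizer_singleton_iff.1 hw.2).pow_left _

end CfsgLib.BenderWorld.R2Kill
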