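import Cfsg.Agent.BenderWorld.R2Kill.Eigen

/-!
# The `q'`-core of the pair stabilizer fixes the orbit

For a minimal moved normal `q`-subgroup `T` the core is generated by centralizers of elements that
are conjugate in `T` to ones generating subgroups invariant under a four group, unless `T` is
elementary abelian with cyclic eigenspaces.
-/

set_option autoImplicit false
set_option linter.style.haveILetI false
set_option linter.unusedSectionVars false

namespace CfsgLib.BenderWorld.R2Kill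

open Subgroup CfsgLib.SEmbed CfsgLib.Small CfsgLib.BenderWorld.R1Kill
open scoped commutatorElement

variable {G : Type*} [Group G] [Finite G] {Ω : Type*} [MulAction G Ω] {q : ℕ}
  {M T : Subgroup G} {c d : Ω}

theorem centralizer_normalized (A : Subgroup G) :
    normalizer (A : Set G) ≤ normalizer (centralizer (A : Set G) : Set G) := by
  intro g hg
  refine mem_normalizer_of_conj fun y hy => mem_centralizer_iff.2 fun a ha => ?_
  have h := mem_centralizer_iff.1 hy _ (conj_normal_mem' hg ha)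
  calc a * (g * y * g⁻¹) = g * ((g⁻¹ * a * g) * y) * g⁻¹ := by group
    _ = g * y * g⁻¹ * a := by rw [h]; group

/-- `T` is minimal among the moved normal subgroups inside it. -/
def IsMinMoved (M T : Subgroup G) : Prop :=
  ∀ T' : Subgroup G, T' ≤ T → M ≤ normalizer (T' : Set G) →
    (∀ i ∈ M, orderOf i = 2 → ∃ t ∈ T', ¬ Commute t i) → T' = T

theorem Member.exists_minimal (h : Member q M T c d) :
    ∃ T₀, Member q M T₀ c d ∧ IsMinMoved M T₀ := by
  obtain ⟨T₀, h₀, hmin⟩ := Set.exists_min_image {S : Subgroup G | Member q M S c d}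
    (fun S => Nat.card S) (Set.toFinite _) ⟨T, h⟩
  exact ⟨T₀, h₀, fun T' hle hn hmov => eq_of_le_of_card_ge hle (hmin T'
    ⟨h₀.ne_top, h₀.r2, h₀.mem, h₀.ne, hle.trans h₀.le, hn, h₀.isPGroup.to_le hle, hmov⟩)⟩

variable [Fact q.Prime] (W : World G Ω) (hq : q ≠ 2) (h : Member q M T c d)
  (hmin : IsMinMoved M T)

include W hq h hmin

theorem closure_inverted :
    T ≤ closure {t | t ∈ T ∧ orderOf t = q ∧ ∃ i ∈ M, orderOf i = 2 ∧ i * t * i⁻¹ = t⁻¹} := by
  set S := {t | t ∈ T ∧ orderOf t = q ∧ ∃ i ∈ M, orderOf i = 2 ∧ i * t * i⁻¹ = t⁻¹}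
  refine (hmin (closure S) ((closure_le _).2 fun t ht => ht.1) (fun m hm => ?_) fun i hi hio => ?_).ge
  · refine mem_normalizer_of_conj fun t ht => ?_
    induction ht using closure_induction with
    | mem t ht =>
      obtain ⟨htT, hto, i, hi, hio, hit⟩ := ht
      refine Subgroup.subset_closure ⟨conj_normal_mem (h.normal hm) htT, (orderOf_conj_eq m t).trans hto,
        m * i * m⁻¹, mul_mem (mul_mem hm hi) (inv_mem hm), (orderOf_conj_eq m i).trans hio, ?_⟩
      calc m * i * m⁻¹ * (m * t * m⁻¹) * (m * i * m⁻¹)⁻¹ = m * (i * t * i⁻¹) * m⁻¹ := by group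
        _ = _ := by rw [hit]; group
    | one => rw [mul_one, mul_inv_cancel]; exact one_mem _
    | mul a b _ _ ha hb =>
      rw [show m * (a * b) * m⁻¹ = m * a * m⁻¹ * (m * b * m⁻¹) by group]
      exact mul_mem ha hb
    | inv a _ ha =>
      rw [show m * a⁻¹ * m⁻¹ = (m * a * m⁻¹)⁻¹ by group]
      exact inv_mem ha
  · obtain ⟨x, hx, V, hVM, hV, hVx, hiV⟩ := exists_four_containing W.uf h.r2 hi hio
    obtain ⟨y, hy, hyo, he, hiy⟩ := h.exists_eigen hq hVM hV hx hVx hiV hio
    exact ⟨y, Subgroup.subset_closure ⟨hy, hyo, i, hi, hio, hiy⟩,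
      fun hc => he.ne (eq_one_of_inverted_commute hc hiy he.odd)⟩

/-- A proper normal subgroup of `M` inside `T` is centralized by the involutions and by `T`. -/
theorem central {T' : Subgroup G} (hle : T' ≤ T) (hn : M ≤ normalizer (T' : Set G))
    (hne : T' ≠ T) :
    (∀ i ∈ M, orderOf i = 2 → ∀ k ∈ T', Commute k i) ∧ ∀ t ∈ T, ∀ k ∈ T', Commute t k := by
  have hinv : ∀ i ∈ M, orderOf i = 2 → ∀ k ∈ T', Commute k i := by
    intro i hi hio k hk
    obtain ⟨j, hj, hjo, hjc⟩ : ∃ j ∈ M, orderOf j = 2 ∧ ∀ t ∈ T', Commute t j := by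
      by_contra hcon
      push Not at hcon
      exact hne (hmin T' hle hn hcon)
    obtain ⟨m, hm, rfl⟩ := exists_conj W.uf h.r2 hj hi hjo hio
    have hc := (hjc _ (conj_normal_mem' (hn hm) hk)).map (MulAut.conj m).toMonoidHom
    have h1 : (MulAut.conj m).toMonoidHom (m⁻¹ * k * m) = k := by
      show m * (m⁻¹ * k * m) * m⁻¹ = k
      group
    rw [h1] at hc
    exact hc
  refine ⟨hinv, fun t ht k hk => ?_⟩
  suffices hS : ∀ t ∈ closure {t | t ∈ T ∧ orderOf t = q ∧
      ∃ i ∈ M, orderOf i = 2 ∧ i * t * i⁻¹ = t⁻¹}, Commute t k from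
    hS t (closure_inverted W hq h hmin ht)
  intro t ht
  induction ht using closure_induction with
  | mem y hy =>
    obtain ⟨hyT, hyo, i, hi, hio, hiy⟩ := hy
    have hc : i * (y * k * y⁻¹) * i⁻¹ = y * k * y⁻¹ :=
      conj_eq_of_commute (hinv i hi hio _ (conj_normal_mem (hn (h.le hyT)) hk)).symm
    have h1 : y⁻¹ * k * y = y * k * y⁻¹ := by
      calc y⁻¹ * k * y = (i * y * i⁻¹) * (i * k * i⁻¹) * (i * y * i⁻¹)⁻¹ := by
            rw [hiy, conj_eq_of_commute (hinv i hi hio k hk).symm, inv_inv]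
        _ = i * (y * k * y⁻¹) * i⁻¹ := by group
        _ = _ := hc
    have h2 : Commute (y ^ 2) k := by
      refine commute_of_conj_eq ?_
      calc y ^ 2 * k * (y ^ 2)⁻¹ = y * (y * k * y⁻¹) * y⁻¹ := by rw [sq]; group
        _ = y * (y⁻¹ * k * y) * y⁻¹ := by rw [h1]
        _ = k := by group
    obtain ⟨j, hj⟩ := exists_sqrt (m := y) (hyo ▸ (Fact.out : q.Prime).odd_of_ne_two hq)
    rw [← hj, ← pow_mul, mul_comm, pow_mul]
    exact h2.pow_left j
  | one => exact Commute.one_left k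
  | mul a b _ _ ha hb => exact ha.mul_left hb
  | inv a _ ha => exact ha.inv_left

omit hmin in
/-- Generation by the centralizers of a suitable group of order `q²`. -/
theorem fix_of_pair {x : Ω} (hx : x ∈ MulAction.orbit M c) {a b : G} (ha : a ∈ T) (hb : b ∈ T)
    (hab : Commute a b) (haq : a ^ q = 1) (hbq : b ^ q = 1) (ha1 : a ≠ 1) (hba : b ∉ zpowers a)
    (hgood : ∀ i j : ℤ, a ^ i * b ^ j ≠ 1 → ∃ t ∈ T, ∃ V : Subgroup G, ∃ y ∈ T, Eigen q V x y ∧
      V ≤ normalizer (zpowers (t * (a ^ i * b ^ j) * t⁻¹) : Set G) ∧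
      y ∈ normalizer (zpowers (t * (a ^ i * b ^ j) * t⁻¹) : Set G)) :
    ∀ g ∈ primeCoreIn q (pairStab G c d), g • x = x := by
  set K := primeCoreIn q (pairStab G c d) with hK
  set A := closure ({a, b} : Set G)
  have hAT : A ≤ T := (closure_le _).2 (by rintro z (rfl | rfl); exacts [ha, hb])
  haveI : IsMulCommutative A := Subgroup.isMulCommutative_closure (by
    rintro p (rfl | rfl) r (rfl | rfl)
    exacts [rfl, hab.eq, hab.eq.symm, rfl])
  have hmemA : ∀ e ∈ A, ∃ i j : ℤ, e = a ^ i * b ^ j := by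
    intro e he
    induction he using closure_induction with
    | mem e he =>
      rcases he with rfl | rfl
      exacts [⟨1, 0, by simp⟩, ⟨0, 1, by simp⟩]
    | one => exact ⟨0, 0, by simp⟩
    | mul e f _ _ ihe ihf =>
      obtain ⟨⟨i, j, rfl⟩, ⟨k, l, rfl⟩⟩ := ihe, ihf
      exact ⟨i + k, j + l, by rw [zpow_add, zpow_add, mul_assoc, ← mul_assoc (b ^ j),
        ((hab.zpow_zpow k j).symm).eq, mul_assoc, ← mul_assoc]⟩
    | inv e _ ihe =>
      obtain ⟨i, j, rfl⟩ := ihe
      exact ⟨-i, -j, by rw [mul_inv_rev, zpow_neg, zpow_neg,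
        ((hab.zpow_zpow i j).inv_inv).symm.eq]⟩
  have hA : ¬ IsCyclic A := by
    intro hc
    obtain ⟨g, hg⟩ := IsCyclic.exists_generator (α := A)
    obtain ⟨i, j, hij⟩ := hmemA g g.2
    have hgq : g ^ q = 1 := Subtype.ext (by
      show (g : G) ^ q = 1
      rw [hij, (hab.zpow_zpow i j).mul_pow, ← zpow_natCast, ← zpow_natCast, ← zpow_mul, ← zpow_mul,
        mul_comm i, mul_comm j, zpow_mul, zpow_mul, zpow_natCast, zpow_natCast, haq, hbq, one_zpow,
        one_zpow, one_mul])
    have hle : Nat.card A ≤ Nat.card (zpowers a) := by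
      rw [← orderOf_eq_card_of_forall_mem_zpowers hg, Nat.card_zpowers,
        orderOf_eq_prime haq ha1]
      exact Nat.le_of_dvd (Fact.out : q.Prime).pos (orderOf_dvd_of_pow_eq_one hgq)
    exact hba ((eq_of_le_of_card_ge (zpowers_le.2 (Subgroup.subset_closure (k := ({a, b} : Set G)) (Or.inl rfl))) hle).ge
      (Subgroup.subset_closure (k := ({a, b} : Set G)) (Or.inr rfl)))
  have hTD : T ≤ pairStab G c d := fun z hz => mem_pairStab.2
    ⟨core_fix_orbit h.r2 (h.le_core hq hz) (MulAction.mem_orbit_self c),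
      core_fix_orbit h.r2 (h.le_core hq hz) h.mem⟩
  have hTK : T ≤ normalizer (K : Set G) := hTD.trans (le_normalizer_primeCoreIn q _)
  have hKq : ¬ q ∣ Nat.card K := not_dvd_primeCoreIn _
  obtain ⟨n, hn⟩ := IsPGroup.iff_card.1 (h.isPGroup.to_le hAT)
  have hle : K ≤ MulAction.stabilizer G x :=
    CfsgLib.Coprime.le_of_forall_inf_centralizer_le hA (hAT.trans hTK)
      (hn ▸ Nat.Coprime.pow_left n ((Fact.out : q.Prime).coprime_iff_not_dvd.2 hKq))
      fun e he he1 g hg => by
        obtain ⟨i, j, rfl⟩ := hmemA e he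
        obtain ⟨t, ht, V, y, hy, hey, hVe, hye⟩ := hgood i j he1
        set e' := t * (a ^ i * b ^ j) * t⁻¹ with he'
        have htx : ∀ z ∈ T, z • x = x := fun z hz => core_fix_orbit h.r2 (h.le_core hq hz) hx
        have he'T : e' ∈ T := mul_mem (mul_mem ht (hAT he)) (inv_mem ht)
        have hUE : K ⊓ centralizer (zpowers e' : Set G) ≤ normalizer (zpowers e' : Set G) :=
          fun z hz => centralizer_mem_normalizer fun k hk =>
            (mem_centralizer_iff.1 hz.2 k hk).symm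
        have hfix := hey.fix_of_normalizes W
          (zpowers_ne_bot.2 fun h1 => he1 ((conj_eq_one_iff (a := t)).1 h1))
          (fun z hz => htx z (zpowers_le.2 he'T hz)) hVe hye hUE
          (inf_normalizer_le_normalizer_inf ⟨hTK hy, centralizer_normalized _ hye⟩)
          (fun hd => hKq (hd.trans (card_dvd_of_le inf_le_left)))
        have hg' : t * g * t⁻¹ ∈ K ⊓ centralizer (zpowers e' : Set G) := by
          refine mem_inf.2 ⟨conj_normal_mem (hTK ht) hg.1, mem_centralizer_iff.2 fun k hk => ?_⟩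
          obtain ⟨l, rfl⟩ := mem_zpowers_iff.1 hk
          have hc : Commute (a ^ i * b ^ j) g := (mem_centralizer_singleton_iff.1 hg.2).symm
          exact ((hc.map (MulAut.conj t).toMonoidHom).zpow_left l).eq
        have h1 := hfix _ hg'
        rw [mul_smul, mul_smul, htx _ (inv_mem ht)] at h1
        show g • x = x
        rw [← smul_left_cancel_iff t, h1, htx t ht]
  exact fun g hg => hle hg

/-- **The core fixes the orbit, or `T` is elementary with cyclic eigenspaces.** -/
theorem fix_or_exceptional :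
    (∀ x ∈ MulAction.orbit M c, ∀ g ∈ primeCoreIn q (pairStab G c d), g • x = x) ∨
    ((∀ t ∈ T, t ^ q = 1) ∧ (∀ a ∈ T, ∀ b ∈ T, Commute a b) ∧
      ∀ V ≤ M, IsFour V → (∀ v ∈ V, v • c = c) → ∀ a ∈ T, ∀ b ∈ T, a ≠ 1 →
        (∀ v ∈ V, (Commute a v ∧ Commute b v) ∨
          (v * a * v⁻¹ = a⁻¹ ∧ v * b * v⁻¹ = b⁻¹)) → b ∈ zpowers a) := by
  have heig : ∀ x ∈ MulAction.orbit M c, ∀ V ≤ M, IsFour V → (∀ v ∈ V, v • x = x) →
      ∃ y ∈ T, orderOf y = q ∧ Eigen q V x y := by
    intro x hx V hVM hV hVx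
    obtain ⟨v, hv, hvo⟩ := hV.exists_invol
    obtain ⟨y, hy, hyo, he, -⟩ := h.exists_eigen hq hVM hV hx hVx hv hvo
    exact ⟨y, hy, hyo, he⟩
  by_cases hab : ∀ a ∈ T, ∀ b ∈ T, Commute a b
  · have hexp : ∀ t ∈ T, t ^ q = 1 := by
      suffices hS : ∀ t ∈ closure {t | t ∈ T ∧ orderOf t = q ∧
          ∃ i ∈ M, orderOf i = 2 ∧ i * t * i⁻¹ = t⁻¹}, t ∈ T ∧ t ^ q = 1 from
        fun t ht => (hS t (closure_inverted W hq h hmin ht)).2
      intro t ht
      induction ht using closure_induction with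
      | mem y hy => exact ⟨hy.1, hy.2.1 ▸ pow_orderOf_eq_one y⟩
      | one => exact ⟨one_mem _, one_pow q⟩
      | mul a b _ _ ha hb =>
        exact ⟨mul_mem ha.1 hb.1, by rw [(hab a ha.1 b hb.1).mul_pow, ha.2, hb.2, one_mul]⟩
      | inv a _ ha => exact ⟨inv_mem ha.1, by rw [inv_pow, ha.2, inv_one]⟩
    refine or_iff_not_imp_right.2 fun hne x hx => ?_
    have hcyc : ¬ ∀ V ≤ M, IsFour V → (∀ v ∈ V, v • c = c) → ∀ a ∈ T, ∀ b ∈ T, a ≠ 1 →
        (∀ v ∈ V, (Commute a v ∧ Commute b v) ∨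
          (v * a * v⁻¹ = a⁻¹ ∧ v * b * v⁻¹ = b⁻¹)) → b ∈ zpowers a :=
      fun hc => hne ⟨hexp, hab, hc⟩
    push Not at hcyc
    obtain ⟨V, hVM, hV, hVc, a, ha, b, hb, ha1, hsame, hba⟩ := hcyc
    obtain ⟨m, hm, rfl⟩ := exists_of_mem_orbit hx
    set φ := (MulAut.conj m).toMonoidHom with hφ
    have hφT : ∀ z ∈ T, φ z ∈ T := fun z hz => conj_normal_mem (h.normal hm) hz
    have hinj : Function.Injective φ := (MulAut.conj m).injective
    obtain ⟨V', hV'⟩ : ∃ V', V' = V.map φ := ⟨_, rfl⟩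
    have hV'M : V' ≤ M := by
      rw [hV']
      rintro _ ⟨v, hv, rfl⟩
      exact mul_mem (mul_mem hm (hVM hv)) (inv_mem hm)
    have hV'four : IsFour V' := ⟨by
        rw [hV', card_map_of_injective hinj, hV.1], by
        rw [hV']
        rintro _ ⟨v, hv, rfl⟩
        rw [← map_mul, hV.2 v hv, map_one]⟩
    have hV'x : ∀ v ∈ V', v • m • c = m • c := by
      rw [hV']
      rintro _ ⟨v, hv, rfl⟩
      show (m * v * m⁻¹) • m • c = m • c
      rw [mul_smul, inv_smul_smul, mul_smul, hVc v hv]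
    obtain ⟨y, hy, -, he⟩ := heig _ hx V' hV'M hV'four hV'x
    refine fix_of_pair W hq h hx (hφT a ha) (hφT b hb) ((hab a ha b hb).map φ)
      (by rw [← map_pow, hexp a ha, map_one]) (by rw [← map_pow, hexp b hb, map_one])
      ((map_ne_one_iff φ hinj).2 ha1) (fun hc => ?_) fun i j _ => ⟨1, one_mem _, V', y, hy, he, ?_, ?_⟩
    · obtain ⟨l, hl⟩ := mem_zpowers_iff.1 hc
      exact hba (mem_zpowers_iff.2 ⟨l, hinj (by rw [map_zpow, hl])⟩)
    · rw [one_mul, inv_one, mul_one, hV']
      rintro _ ⟨v, hv, rfl⟩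
      refine mem_normalizer_zpowers ?_
      rcases hsame v hv with ⟨h1, h2⟩ | ⟨h1, h2⟩
      · exact Or.inl (((h1.map φ).zpow_left i).mul_left ((h2.map φ).zpow_left j))
      · refine Or.inr ?_
        rw [show φ v * (φ a ^ i * φ b ^ j) * (φ v)⁻¹ = φ (v * a * v⁻¹) ^ i * φ (v * b * v⁻¹) ^ j by
          rw [map_mul, map_mul, map_inv, map_mul, map_mul, map_inv, conj_zpow, conj_zpow]
          group, h1, h2, map_inv, map_inv, inv_zpow, inv_zpow, mul_inv_rev,
          (((hab a ha b hb).map φ).zpow_zpow i j).inv_inv.eq]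
    · rw [one_mul, inv_one, mul_one]
      exact centralizer_mem_normalizer fun z hz => hab _ hy _ (zpowers_le.2
        (mul_mem (zpow_mem (hφT a ha) i) (zpow_mem (hφT b hb) j)) hz)
  · refine Or.inl fun x hx => ?_
    push Not at hab
    obtain ⟨a₀, ha₀, b₀, hb₀, hab⟩ := hab
    obtain ⟨V, hVM, hV, hVx⟩ := exists_four_at h.r2 hx
    obtain ⟨y, hy, hyo, he⟩ := heig x hx V hVM hV hVx
    set C := ⁅T, T⁆ with hC
    have hCT : C ≤ T := commutator_le.2 fun a ha b hb => by
      rw [commutatorElement_def]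
      exact mul_mem (mul_mem (mul_mem ha hb) (inv_mem ha)) (inv_mem hb)
    have hCM : M ≤ normalizer (C : Set G) := fun g hg => by
      have h1 := mem_normalizer_iff_map_conj_eq.1 (h.normal hg)
      rw [mem_normalizer_iff_map_conj_eq, hC, map_commutator, h1]
    have hCne : C ≠ T := by
      intro he'
      haveI : Group.IsSolvable T :=
        CfsgLib.MinNonCA.isSolvable_of_odd T (odd_of_isPGroup Fact.out hq h.isPGroup)
      haveI : Nontrivial T := (nontrivial_iff_ne_bot T).2 fun h1 =>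
        he.ne (mem_bot.1 (h1 ▸ hy))
      refine (Group.IsSolvable.commutator_lt_top_of_nontrivial T).ne ?_
      apply map_injective T.subtype_injective
      rw [map_subtype_commutator, ← MonoidHom.range_eq_map, range_subtype]
      exact he'
    obtain ⟨hCi, hCt⟩ := central W hq h hmin hCT hCM hCne
    set Z := T ⊓ centralizer (T : Set G) with hZ
    have hZne : Z ≠ T := fun he' => hab ((mem_centralizer_iff.1
      ((he'.ge hb₀).2 : b₀ ∈ centralizer (T : Set G)) a₀ ha₀))
    obtain ⟨hZi, -⟩ := central W hq h hmin inf_le_left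
      ((le_inf h.normal (h.normal.trans (centralizer_normalized T))).trans
        inf_normalizer_le_normalizer_inf) hZne
    obtain ⟨s, hs, hsy⟩ := he.inverted
    have hs1 : s ≠ 1 := fun h1 => he.ne (eq_one_of_inverted_commute
      (h1 ▸ Commute.one_right y : Commute y s) hsy he.odd)
    obtain ⟨t₀, ht₀, hty⟩ : ∃ t ∈ T, ¬ Commute t y := by
      by_contra hcon
      push Not at hcon
      exact he.ne (eq_one_of_inverted_commute (hZi s (hVM hs) (hV.orderOf_eq_two hs hs1) y
        (mem_inf.2 ⟨hy, mem_centralizer_iff.2 fun t ht => (hcon t ht).eq⟩)) hsy he.odd)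
    obtain ⟨z, hzd⟩ : ∃ z, z = t₀ * y * t₀⁻¹ * y⁻¹ := ⟨_, rfl⟩
    have hzC : z ∈ C := by
      rw [hzd, ← commutatorElement_def]
      exact commutator_mem_commutator ht₀ hy
    have hz1 : z ≠ 1 := fun h1 => hty (commute_of_conj_eq (mul_inv_eq_one.1 (hzd ▸ h1)))
    have hyq : y ^ q = 1 := hyo ▸ pow_orderOf_eq_one y
    have hzy : Commute z y := (hCt y hy z hzC).symm
    have hconj : t₀ * y * t₀⁻¹ = z * y := by rw [hzd]; group
    have hzq : z ^ q = 1 := by
      have h1 : (t₀ * y * t₀⁻¹) ^ q = 1 := by rw [conj_pow, hyq, mul_one, mul_inv_cancel]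
      rwa [hconj, hzy.mul_pow, hyq, mul_one] at h1
    have hVz : ∀ i : ℤ, ∀ v ∈ V, v ∈ normalizer (zpowers (z ^ i) : Set G) := by
      intro i v hv
      refine mem_normalizer_zpowers (Or.inl ?_)
      rcases eq_or_ne v 1 with rfl | hv1
      · exact Commute.one_right _
      · exact hCi v (hVM hv) (hV.orderOf_eq_two hv hv1) _ (zpow_mem hzC i)
    refine fix_of_pair W hq h hx (hCT hzC) hy hzy hzq hyq hz1 (fun hc => ?_) fun i j hij => ?_
    · exact he.ne (eq_one_of_inverted_commute
        (hCi s (hVM hs) (hV.orderOf_eq_two hs hs1) y ((zpowers_le.2 hzC) hc)) hsy he.odd)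
    by_cases hj : y ^ j = 1
    · refine ⟨1, one_mem _, V, y, hy, he, ?_, ?_⟩ <;> rw [one_mul, inv_one, mul_one, hj, mul_one]
      · exact hVz i
      · exact centralizer_mem_normalizer fun k hk =>
          hCt y hy k (zpowers_le.2 (zpow_mem hzC i) hk)
    · -- conjugate `z ^ i * y ^ j` to `y ^ j`
      have hzj : orderOf (z ^ j) = q := by
        refine orderOf_eq_prime (by rw [← zpow_natCast, ← zpow_mul, mul_comm, zpow_mul,
          zpow_natCast, hzq, one_zpow]) fun h1 => hj ?_
        have hd : (q : ℤ) ∣ j := by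
          rw [← orderOf_eq_prime hzq hz1]
          exact orderOf_dvd_iff_zpow_eq_one.2 h1
        rw [← orderOf_dvd_iff_zpow_eq_one, hyo]
        exact hd
      have hzz : zpowers (z ^ j) = zpowers z := eq_of_le_of_card_ge
        (zpowers_le.2 (zpow_mem (mem_zpowers z) j))
        (by rw [Nat.card_zpowers, Nat.card_zpowers, hzj, orderOf_eq_prime hzq hz1])
      obtain ⟨k, hk⟩ := mem_zpowers_iff.1
        (hzz.ge (zpow_mem (mem_zpowers z) (-i)) : z ^ (-i) ∈ zpowers (z ^ j))
      have hpow : ∀ k : ℕ, t₀ ^ k * y * (t₀ ^ k)⁻¹ = z ^ k * y := by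
        intro k
        induction k with
        | zero => simp
        | succ k ih =>
          have hc : Commute t₀ (z ^ k) := hCt t₀ ht₀ _ (pow_mem hzC k)
          calc t₀ ^ (k + 1) * y * (t₀ ^ (k + 1))⁻¹ = t₀ * (t₀ ^ k * y * (t₀ ^ k)⁻¹) * t₀⁻¹ := by
                rw [pow_succ']; group
            _ = z ^ k * (t₀ * y * t₀⁻¹) := by rw [ih, ← mul_assoc, hc.eq]; group
            _ = z ^ (k + 1) * y := by rw [hconj, pow_succ, mul_assoc]
      obtain ⟨k', hk'⟩ : ∃ k' : ℕ, z ^ k' = z ^ k := by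
        have := zpow_mem (mem_zpowers z) k
        rw [← mem_powers_iff_mem_zpowers] at this
        exact this
      have hconj' : t₀ ^ k' * (z ^ i * y ^ j) * (t₀ ^ k')⁻¹ = y ^ j := by
        have hc : Commute (t₀ ^ k') (z ^ i) := (hCt t₀ ht₀ _ (zpow_mem hzC i)).pow_left k'
        rw [← mul_assoc, hc.eq, mul_assoc, mul_assoc, ← mul_assoc (t₀ ^ k'), ← conj_zpow, hpow k',
          hk', (hzy.zpow_left k).mul_zpow, ← mul_assoc, ← zpow_mul, mul_comm k, zpow_mul, hk,
          ← zpow_add, add_neg_cancel, zpow_zero, one_mul]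
      refine ⟨t₀ ^ k', pow_mem ht₀ k', V, y, hy, he, ?_, ?_⟩
      · rw [hconj']
        obtain ⟨-, -, -, -, -, -, -, u, hu, hu1, huy⟩ := he
        have hso := hV.orderOf_eq_two hs hs1
        have huo := hV.orderOf_eq_two hu hu1
        have hsu : s ≠ u := fun h1 => hty (by
          rw [eq_one_of_inverted_commute (h1 ▸ huy) hsy
            (hyo ▸ (Fact.out : q.Prime).odd_of_ne_two hq)]
          exact Commute.one_right _)
        have hgen : closure ({s, u} : Set G) = V := by
          refine eq_of_le_of_card_ge ((closure_le _).2 ?_) ?_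
          · rintro w (rfl | rfl)
            exacts [hs, hu]
          · rw [hV.1, (isFour_closure_pair hso huo hsu (hV.commute hs hu)).1]
        rw [← hgen, closure_le]
        rintro w (rfl | rfl)
        · exact mem_normalizer_zpowers (Or.inr (by rw [← conj_zpow, hsy, inv_zpow]))
        · exact mem_normalizer_zpowers (Or.inl (huy.zpow_left j))
      · rw [hconj']
        exact mem_normalizer_zpowers (Or.inl ((Commute.refl y).zpow_left j))

end CfsgLib.BenderWorld.R2Kill
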