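import Cfsg.Agent.BenderWorld.R2Kill.Fixed

/-!
# The kill for a maximal member

If `O_{q'}` of the pair stabilizer is trivial, `N(ZJ P)` contains it; if it fixes the orbit, it is
the `q'`-core of the pointwise stabilizer of the orbit, which the local normalizes.
-/

set_option autoImplicit false
set_option linter.style.haveILetI false
set_option linter.unusedSectionVars false

namespace CfsgLib.BenderWorld.R2Kill

open Subgroup CfsgLib.SEmbed CfsgLib.Small CfsgLib.BenderWorld.R1Kill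

variable {G : Type*} [Group G] [Finite G] {Ω : Type*} [MulAction G Ω] {q : ℕ}
  {M T P : Subgroup G} {c d : Ω}

theorem Member.ne_bot (h : Member q M T c d) : T ≠ ⊥ := by
  intro h0
  obtain ⟨v, hv, hv'⟩ := exists_invol_at h.r2
  obtain ⟨t, ht, htv⟩ := h.moved v hv hv'.1
  rw [h0, mem_bot] at ht
  exact htv (ht ▸ Commute.one_left v)

theorem kill_of_core_bot (W : World G Ω) [Fact q.Prime] (hq : q ≠ 2) (h : Member q M T c d)
    (hPX : P ≤ M ⊓ pairStab G c d) (hP : IsPGroup q P) (hTP : T ≤ P)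
    (hmax : ∀ R : Subgroup G, IsPGroup q R → P ≤ R → R ≤ pairStab G c d → R = P)
    (hV : ∃ V ≤ normalizer (Cfsg.centerThompsonAOf P : Set G), IsFour V ∧ ∀ v ∈ V, v • c = c)
    (hw : ∃ w ∈ normalizer (Cfsg.centerThompsonAOf P : Set G),
      w ∈ M ∧ w ∈ invMap (G := G) c d ∧ w ∈ normalizer (P : Set G))
    (hK : primeCoreIn q (pairStab G c d) = ⊥) : Kill G Ω := by
  obtain ⟨V, hVN, hV, hVc⟩ := hV
  obtain ⟨w, hwN, -, hw, -⟩ := hw
  obtain ⟨v, hv, hvo⟩ := hV.exists_invol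
  have hP1 : P ≠ ⊥ := fun h0 => h.ne_bot (le_bot_iff.1 (h0 ▸ hTP))
  refine ⟨_, normalizer_ne_top W (CfsgLib.PLocal.centerThompsonAOf_ne_bot hP hP1)
    (fun z hz => (hPX (CfsgLib.PLocal.centerThompsonAOf_le P hz)).2.1), c, d, h.ne.symm,
    le_normalizer_zj hq (odd_pairStab W h.ne.symm) (hPX.trans inf_le_right) hP hmax hK,
    ⟨v, hVN hv, hvo, hVc v hv⟩, w, hwN, ?_⟩
  rw [hw.2]
  exact h.ne

theorem kill_of_fix_orbit (W : World G Ω) [Fact q.Prime] (h : Member q M T c d)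
    (hPX : P ≤ M ⊓ pairStab G c d) (hP : IsPGroup q P)
    (hmax : ∀ R : Subgroup G, IsPGroup q R → P ≤ R → R ≤ pairStab G c d → R = P)
    (hK : primeCoreIn q (pairStab G c d) ≠ ⊥)
    (hfix : ∀ x ∈ MulAction.orbit M c, ∀ g ∈ primeCoreIn q (pairStab G c d), g • x = x) :
    Kill G Ω := by
  set D := pairStab G c d with hD
  set K := primeCoreIn q D with hKdef
  set F := fixingSubgroup G (MulAction.orbit M c) with hF
  have hFD : F ≤ D := fun g hg => mem_pairStab.2
    ⟨(mem_fixingSubgroup_iff G).1 hg c (MulAction.mem_orbit_self c),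
      (mem_fixingSubgroup_iff G).1 hg d h.mem⟩
  have hKF : K ≤ primeCoreIn q F := le_primeCoreIn_of_normal
    (fun g hg => (mem_fixingSubgroup_iff G).2 fun x hx => hfix x hx g hg)
    (hFD.trans (le_normalizer_primeCoreIn q D)) (not_dvd_primeCoreIn D)
  have hMF : M ≤ normalizer (primeCoreIn q F : Set G) :=
    (le_normalizer_orbitStab M c).trans (normalizer_le_normalizer_primeCoreIn q F)
  have hFK : primeCoreIn q F ≤ K := le_primeCoreIn (odd_pairStab W h.ne.symm)
    (hPX.trans inf_le_right) hP hmax ((primeCoreIn_le q F).trans hFD)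
    ((hPX.trans inf_le_left).trans hMF) (not_dvd_primeCoreIn F)
  obtain ⟨v, hvM, hv⟩ := exists_invol_at h.r2
  obtain ⟨g, hg, hgc⟩ := exists_mover h.r2
  rw [le_antisymm hFK hKF] at hMF
  exact ⟨_, normalizer_ne_top W hK (fun z hz => (mem_pairStab.1 (primeCoreIn_le q D hz)).1),
    c, d, h.ne.symm, le_normalizer_primeCoreIn q D, ⟨v, hMF hvM, hv⟩, g, hMF hg, hgc⟩

/-- A member with the largest `q`-part. -/
theorem exists_max_member [Fact q.Prime] {M₀ T₀ : Subgroup G} {c₀ d₀ : Ω} (h₀ : Member q M₀ T₀ c₀ d₀) :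
    ∃ (M T : Subgroup G) (c d : Ω), Member q M T c d ∧ IsMax q M c d := by
  set S : Set ℕ := {n : ℕ | ∃ (M T : Subgroup G) (c d : Ω), Member q M T c d ∧ qPart q M c d = n}
  have hbdd : BddAbove S := ⟨Nat.card G, by
    rintro n ⟨M, T, c, d, -, rfl⟩
    exact (Nat.factorization_le_of_le_pow (n := Nat.card ↥(M ⊓ pairStab G c d))
      (p := q) (b := Nat.card G) (le_trans (Nat.le_of_dvd Nat.card_pos (card_subgroup_dvd_card _))
        (Nat.lt_pow_self (Fact.out : q.Prime).one_lt).le))⟩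
  obtain ⟨M, T, c, d, h, hn⟩ := Nat.sSup_mem (s := S) ⟨_, M₀, T₀, c₀, d₀, h₀, rfl⟩ hbdd
  exact ⟨M, T, c, d, h, fun M' T' c' d' h' => hn ▸ le_csSup hbdd ⟨M', T', c', d', h', rfl⟩⟩

end CfsgLib.BenderWorld.R2Kill
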