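import Cfsg.Agent.BenderWorld.R2Kill.Basic

/-!
# Members, and the ZJ step

A member is an `IsR2` local with a normal `q`-subgroup moved by its involutions; one with the
largest `q`-part of a pair stabilizer has that Sylow subgroup Sylow in the whole pair stabilizer,
and the normalizer of its `Z(J)` keeps a four group at the point and a swapper.
-/

set_option autoImplicit false
set_option linter.style.haveILetI false
set_option linter.unusedSectionVars false

namespace CfsgLib.BenderWorld.R2Kill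

open Subgroup CfsgLib.SEmbed CfsgLib.Small CfsgLib.BenderWorld.R1Kill

variable {G : Type*} [Group G] [Finite G] {Ω : Type*} [MulAction G Ω] {q : ℕ}

theorem odd_pairStab (W : World G Ω) {a b : Ω} (hab : a ≠ b) :
    Odd (Nat.card (pairStab G a b)) := by
  rw [← Nat.not_even_iff_odd]
  intro he
  obtain ⟨i, hi, hio⟩ := exists_invol_mem he
  exact hab (W.uf.unique i hio a b hi.1 hi.2)

theorem normalizer_ne_top (W : World G Ω) {T : Subgroup G} {a : Ω} (hT : T ≠ ⊥)
    (hTa : ∀ t ∈ T, t • a = a) : normalizer (T : Set G) ≠ ⊤ := by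
  intro htop
  haveI := W.simple
  haveI := W.nontrivial
  haveI : T.Normal := normalizer_eq_top_iff.1 htop
  rcases IsSimpleGroup.eq_bot_or_eq_top_of_normal T inferInstance with h | h
  · exact hT h
  · obtain ⟨b, hb⟩ := exists_ne a
    obtain ⟨g, hg⟩ := W.uf.transitive a b
    exact hb (hg ▸ hTa g (h ▸ mem_top g))

/-- An `IsR2` local with a normal `q`-subgroup moved by its involutions. -/
structure Member (q : ℕ) (M T : Subgroup G) (c d : Ω) : Prop where
  ne_top : M ≠ ⊤
  r2 : IsR2 M c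
  mem : d ∈ MulAction.orbit M c
  ne : d ≠ c
  le : T ≤ M
  normal : M ≤ normalizer (T : Set G)
  isPGroup : IsPGroup q T
  moved : ∀ i ∈ M, orderOf i = 2 → ∃ t ∈ T, ¬ Commute t i

/-- The `q`-part of the pair stabilizer in the local. -/
noncomputable def qPart (q : ℕ) (M : Subgroup G) (c d : Ω) : ℕ :=
  (Nat.card ↥(M ⊓ pairStab G c d)).factorization q

theorem pairStab_le_core_sup {N : Subgroup G} {c d : Ω} (hN : IsR2 N c)
    (hd : d ∈ MulAction.orbit N c) {M : Subgroup G}
    (hcov : ∀ g ∈ N, ∃ o ∈ coreIn N, o⁻¹ * g ∈ M) :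
    N ⊓ pairStab G c d ≤ (M ⊓ pairStab G c d) ⊔ coreIn N := by
  intro g hg
  obtain ⟨o, ho, hog⟩ := hcov g hg.1
  have hm : o⁻¹ * g ∈ M ⊓ pairStab G c d := by
    refine mem_inf.2 ⟨hog, mem_pairStab.2 ⟨?_, ?_⟩⟩
    · rw [mul_smul, show g • c = c from hg.2.1, core_fix_orbit hN (inv_mem ho) (MulAction.mem_orbit_self c)]
    · rw [mul_smul, show g • d = d from hg.2.2, core_fix_orbit hN (inv_mem ho) hd]
  rw [show g = o * (o⁻¹ * g) by group]
  exact mul_mem (mem_sup_right ho) (mem_sup_left hm)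

/-- A moved `q`-element of the core of an `IsR2` local gives a member. -/
theorem exists_member (W : World G Ω) [Fact q.Prime] {N : Subgroup G} {c d : Ω}
    (hN : N ≠ ⊤) (hR : IsR2 N c) (hd : d ∈ MulAction.orbit N c) (hdc : d ≠ c) {s y : G}
    (hs : s ∈ N) (hso : orderOf s = 2) (hy : y ∈ coreIn N) (hyq : IsPGroup q (zpowers y))
    (hy1 : y ≠ 1) (hsy : s * y * s⁻¹ = y⁻¹) :
    ∃ M T : Subgroup G, Member q M T c d ∧ qPart q N c d ≤ qPart q M c d := by
  classical
  set O := coreIn N with hO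
  obtain ⟨V, hVN, hV, hVc⟩ := hR.four
  have hcop : (Nat.card V).Coprime (Nat.card O) := by
    rw [hV.1]
    exact (Nat.coprime_two_left.2 (R1Kill.odd_coreIn N)).pow_left 2
  haveI := hV.isMulCommutative
  obtain ⟨P, hPn⟩ := CfsgLib.Coprime.exists_invariant_sylow (p := q) (G := O) (A := V)
    (hVN.trans (le_normalizer_coreIn N)) hcop
    (Or.inr (CfsgLib.MinNonCA.isSolvable_of_odd O (R1Kill.odd_coreIn N)))
  set T := (P : Subgroup O).map O.subtype with hT
  have hTO : T ≤ O := map_subtype_le _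
  have hTp : IsPGroup q T := P.isPGroup'.map _
  have hTc : Nat.card T = q ^ (Nat.card O).factorization q := by
    rw [hT, card_map_of_injective O.subtype_injective, P.card_eq_multiplicity]
  set M := N ⊓ normalizer (T : Set G) with hM
  have hcov : ∀ g ∈ N, ∃ o ∈ O, o⁻¹ * g ∈ M := fun g hg => by
    obtain ⟨o, ho, hog⟩ := CfsgLib.AbelSolvCent.exists_mul_normalizer
      (le_normalizer_coreIn N hg) hTO hTc
    exact ⟨o, ho, mem_inf.2 ⟨mul_mem (inv_mem (R1Kill.coreIn_le N ho)) hg, hog⟩⟩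
  have horb : ∀ x ∈ MulAction.orbit N c, x ∈ MulAction.orbit M c := by
    intro x hx
    obtain ⟨g, hg, rfl⟩ := exists_of_mem_orbit hx
    obtain ⟨o, ho, hog⟩ := hcov g hg
    have h : (o⁻¹ * g) • c = g • c := by
      rw [mul_smul, core_fix_orbit hR (inv_mem ho) (smul_mem_orbit hg c)]
    exact h ▸ smul_mem_orbit hog c
  have hVM : V ≤ M := le_inf hVN hPn
  have hdM := horb d hd
  obtain ⟨g, hg, hgd⟩ := exists_of_mem_orbit hdM
  have hR' : IsR2 M c := isR2_at W (fun h => hN (top_unique (h ▸ inf_le_left))) hV hVM hVc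
    ⟨g, hg, hgd ▸ hdc⟩
  refine ⟨M, T, ⟨fun h => hN (top_unique (h ▸ inf_le_left)), hR', hdM, hdc,
    le_inf (hTO.trans (R1Kill.coreIn_le N)) le_normalizer, inf_le_right, hTp, ?_⟩, ?_⟩
  · intro i hi hio
    by_contra hcon
    push Not at hcon
    obtain ⟨m, hm, hms⟩ := exists_conj W.uf hR hi.1 hs hio hso
    have hyodd := odd_orderOf_of_mem (R1Kill.odd_coreIn N) hy
    have hsz : s ∈ normalizer (zpowers y : Set G) := by
      refine mem_normalizer_of_conj fun z hz => ?_
      obtain ⟨j, rfl⟩ := mem_zpowers_iff.1 hz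
      rw [← conj_zpow, hsy, inv_zpow]
      exact inv_mem (zpow_mem (mem_zpowers y) j)
    obtain ⟨P₁, hyP₁, hP₁O, -, hsP₁, hP₁c⟩ := exists_sylow_inv (U := zpowers y) hso
      (R1Kill.odd_coreIn N) (le_normalizer_coreIn N hs) (zpowers_le.2 hy) hyq hsz
    set T' := T.map (MulAut.conj m).toMonoidHom with hT'
    have hT's : ∀ z ∈ T', Commute z s := by
      rintro _ ⟨z, hz, rfl⟩
      rw [← hms]
      exact (hcon z hz).map (MulAut.conj m).toMonoidHom
    have hT'O : T' ≤ O := by
      rintro _ ⟨z, hz, rfl⟩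
      exact conj_normal_mem (le_normalizer_coreIn N hm) (hTO hz)
    have hT'c : Nat.card T' = q ^ (Nat.card O).factorization q := by
      rw [hT', ← Nat.card_congr (T.equivMapOfInjective (MulAut.conj m).toMonoidHom
        (MulAut.conj m).injective).toEquiv, hTc]
    obtain ⟨e, -, hev, heq⟩ := exists_conj_inv hso (R1Kill.odd_coreIn N)
      (le_normalizer_coreIn N hs) hP₁O hT'O hP₁c hT'c hsP₁
      (centralizer_mem_normalizer fun z hz => (hT's z hz).symm)
    obtain ⟨z, hz, hzy⟩ : y ∈ T'.map (MulAut.conj e).toMonoidHom :=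
      heq ▸ hyP₁ (mem_zpowers y)
    have hzy' : e * z * e⁻¹ = y := hzy
    have hcy : Commute y s := hzy' ▸ ((hev.mul_left (hT's z hz)).mul_left hev.inv_left)
    rw [conj_eq_of_commute hcy.symm] at hsy
    have h2 : y ^ 2 = 1 := by rw [sq]; exact mul_eq_one_iff_eq_inv.2 hsy
    exact hy1 (orderOf_eq_one_iff.1 (Nat.eq_one_of_dvd_coprimes
      (Nat.coprime_two_left.2 hyodd) (orderOf_dvd_of_pow_eq_one h2) dvd_rfl))
  · have hle : N ⊓ pairStab G c d ≤ (M ⊓ pairStab G c d) ⊔ O := pairStab_le_core_sup hR hd hcov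
    have hMN : M ⊓ pairStab G c d ≤ normalizer (O : Set G) :=
      inf_le_left.trans (inf_le_left.trans (le_normalizer_coreIn N))
    have h1 := congrArg (fun k => k.factorization q) (CfsgLib.PLocal.card_sup_mul_card_inf hMN)
    have h2 := CfsgLib.AbelSolvCent.factorization_le_of_le (p := q) hle
    have hTle : T ≤ (M ⊓ pairStab G c d) ⊓ O := le_inf (le_inf
      (le_inf (hTO.trans (R1Kill.coreIn_le N)) le_normalizer)
      fun z hz => mem_pairStab.2 ⟨core_fix_orbit hR (hTO hz) (MulAction.mem_orbit_self c),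
        core_fix_orbit hR (hTO hz) hd⟩) hTO
    have h3 := CfsgLib.AbelSolvCent.factorization_le_of_le (p := q) hTle
    rw [hTc, (Fact.out : q.Prime).factorization_pow, Finsupp.single_eq_same] at h3
    rw [Nat.factorization_mul Nat.card_pos.ne' Nat.card_pos.ne',
      Nat.factorization_mul Nat.card_pos.ne' Nat.card_pos.ne', Finsupp.add_apply,
      Finsupp.add_apply] at h1
    show (Nat.card ↥(N ⊓ pairStab G c d)).factorization q ≤
      (Nat.card ↥(M ⊓ pairStab G c d)).factorization q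
    omega

/-- Glauberman's factorization with abelian Sylow 2-subgroups. -/
theorem le_core_sup_zj [Fact q.Prime] (hq : q ≠ 2) {H P : Subgroup G} [Group.IsSolvable H]
    (hab : ∀ S : Sylow 2 H, IsMulCommutative S) (hPH : P ≤ H)
    (hPc : Nat.card P = q ^ (Nat.card H).factorization q) :
    H ≤ (normalizer (Cfsg.centerThompsonAOf P : Set G) ⊓ H) ⊔ primeCoreIn q H := by
  have hns : ¬ CfsgLib.PLocal.HasSL2Section q (⊤ : Subgroup H) := fun h => by
    have h' := h.map_subtype
    rw [← MonoidHom.range_eq_map, range_subtype] at h'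
    exact CfsgLib.PLocal.not_hasSL2Section_of_abelian_sylow_two hq hab h'
  let P' : Sylow q H := Sylow.ofCard (P.subgroupOf H)
    (by rw [Nat.card_congr (subgroupOfEquivOfLe hPH).toEquiv, hPc])
  have hfac := CfsgLib.AbelSolvCent.zj_factor hq hns P'
  have hPm : (P' : Subgroup H).map H.subtype = P := by
    rw [show (P' : Subgroup H) = P.subgroupOf H from rfl, subgroupOf_map_subtype,
      inf_eq_left.2 hPH]
  have h1 := congrArg (Subgroup.map H.subtype) hfac
  rw [Subgroup.map_sup, ← MonoidHom.range_eq_map, range_subtype] at h1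
  refine h1.ge.trans (sup_le le_sup_right (le_trans ?_ le_sup_left))
  rintro _ ⟨x, hx, rfl⟩
  refine mem_inf.2 ⟨?_, x.2⟩
  have h2 := (le_normalizer_map H.subtype) (mem_map_of_mem H.subtype hx)
  rwa [CfsgLib.PLocal.map_centerThompsonAOf H.subtype_injective, hPm] at h2

/-- The largest `q`-part. -/
def IsMax (q : ℕ) (M : Subgroup G) (c d : Ω) : Prop :=
  ∀ (M' T' : Subgroup G) (c' d' : Ω), Member q M' T' c' d' → qPart q M' c' d' ≤ qPart q M c d

theorem Member.le_core {M T : Subgroup G} {c d : Ω} (h : Member q M T c d) [Fact q.Prime]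
    (hq : q ≠ 2) : T ≤ coreIn M :=
  le_coreIn h.le h.normal (odd_of_isPGroup Fact.out hq h.isPGroup)

theorem Member.core_le_pair {M T : Subgroup G} {c d : Ω} (h : Member q M T c d) :
    coreIn M ≤ M ⊓ pairStab G c d := fun _ hg => mem_inf.2 ⟨R1Kill.coreIn_le M hg, mem_pairStab.2
  ⟨core_fix_orbit h.r2 hg (MulAction.mem_orbit_self c), core_fix_orbit h.r2 hg h.mem⟩⟩

/-- **The ZJ step.** -/
theorem exists_zj (W : World G Ω) [Fact q.Prime] (hq : q ≠ 2) {M T : Subgroup G} {c d : Ω}
    (h : Member q M T c d) (hmax : IsMax q M c d) :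
    ∃ P : Subgroup G, P ≤ M ⊓ pairStab G c d ∧ IsPGroup q P ∧ T ≤ P ∧
      Nat.card P = q ^ qPart q M c d ∧
      (∀ R : Subgroup G, IsPGroup q R → P ≤ R → R ≤ pairStab G c d → R = P) ∧
      (∃ V ≤ normalizer (Cfsg.centerThompsonAOf P : Set G), IsFour V ∧ ∀ v ∈ V, v • c = c) ∧
      ∃ w ∈ normalizer (Cfsg.centerThompsonAOf P : Set G),
        w ∈ M ∧ w ∈ invMap (G := G) c d ∧ w ∈ normalizer (P : Set G) := by
  classical
  haveI : Fact (Nat.Prime 2) := ⟨Nat.prime_two⟩
  set O := coreIn M with hO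
  set X := M ⊓ pairStab G c d with hX
  have hXodd : Odd (Nat.card X) :=
    (odd_pairStab W h.ne.symm).of_dvd_nat (card_dvd_of_le inf_le_right)
  obtain ⟨w, hwM, hw⟩ := exists_swap_mem W.uf h.r2 h.mem h.ne
  have hwX : w ∈ normalizer (X : Set G) := inf_normalizer_le_normalizer_inf
    ⟨le_normalizer hwM, mem_normalizer_pairStab (Or.inr ⟨hw.2, smul_back hw.1 hw.2⟩)⟩
  obtain ⟨P, -, hPX, hP, hwP, hPc⟩ := exists_sylow_inv (q := q) (U := (⊥ : Subgroup G)) hw.1 hXodd
    hwX bot_le IsPGroup.of_bot (centralizer_mem_normalizer fun t ht => by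
      rw [mem_bot] at ht
      exact ht ▸ Commute.one_right w)
  have hPM : P ≤ M := hPX.trans inf_le_left
  have hOX : O ≤ X := h.core_le_pair
  have hTP : T ≤ P := le_sup_left.trans (eq_of_sylow_card (F := X) le_sup_right
    (sup_le ((h.le_core hq).trans hOX) hPX)
    (h.isPGroup.to_sup_of_normal_left' hP (hPM.trans h.normal)) hPc).le
  obtain ⟨V₀, hV₀M, hV₀, hV₀c⟩ := h.r2.four
  obtain ⟨S, hV₀S, hS⟩ := exists_sys h.r2 hV₀ hV₀M hV₀c
  -- the involutions of `S`
  have hcomm : ∀ a ∈ S, a * a = 1 → ∀ g ∈ S, Commute g a := fun a ha haa g hg => by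
    by_cases ha1 : a = 1
    · exact ha1 ▸ Commute.one_right g
    · exact hS.central a ha (orderOf_eq_prime (by rw [sq, haa]) ha1) g hg
  let E : Subgroup G :=
    { carrier := {g | g ∈ S ∧ g * g = 1}
      one_mem' := ⟨one_mem _, one_mul 1⟩
      mul_mem' := fun {a b} ha hb => ⟨mul_mem ha.1 hb.1, by
        rw [show a * b * (a * b) = a * (b * a) * b by group, (hcomm a ha.1 ha.2 b hb.1).eq,
          show a * (a * b) * b = a * a * (b * b) by group, ha.2, hb.2, one_mul]⟩
      inv_mem' := fun {a} ha => ⟨inv_mem ha.1, by rw [← mul_inv_rev, ha.2, inv_one]⟩ }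
  have hEab : ∀ a ∈ E, ∀ b ∈ E, Commute a b := fun a ha b hb => hcomm b hb.1 hb.2 a ha.1
  have hE2 : IsPGroup 2 E := hS.pgroup.to_le fun g hg => hg.1
  have hEM : E ≤ M := fun g hg => hS.le hg.1
  have hEO : E ≤ normalizer (O : Set G) := hEM.trans (le_normalizer_coreIn M)
  set OE := E ⊔ O with hOE
  have hOEM : OE ≤ M := sup_le hEM (R1Kill.coreIn_le M)
  have hPOE : P ≤ normalizer (OE : Set G) := by
    intro a ha
    refine mem_normalizer_of_conj fun z hz => ?_
    obtain ⟨o, ho, e, he, rfl⟩ := CfsgLib.Coprime.exists_mul_of_mem_sup hEO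
      (show z ∈ O ⊔ E by rw [sup_comm]; exact hz)
    have hac : a • c = c := (hPX ha).2.1
    have hee : (a * e * a⁻¹) * (a * e * a⁻¹) = 1 := by
      rw [show a * e * a⁻¹ * (a * e * a⁻¹) = a * (e * e) * a⁻¹ by group, he.2, mul_one,
        mul_inv_cancel]
    obtain ⟨s, hs, hso⟩ := hS.cover (a * e * a⁻¹)
      (mul_mem (mul_mem (hPM ha) (hEM he)) (inv_mem (hPM ha)))
      (conj_fix (by rw [inv_smul_eq_iff.2 hac.symm]; exact hS.fix e he.1)) 1
      (by rw [pow_one, sq, hee]; exact one_mem _)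
    obtain ⟨o', ho'⟩ : ∃ o', o' = s⁻¹ * (a * e * a⁻¹) := ⟨_, rfl⟩
    have hss : s * s = 1 := by
      refine hS.core _ (mul_mem hs hs) ?_
      have h1 : a * e * a⁻¹ = s * o' := by rw [ho']; group
      rw [h1] at hee
      rw [show s * s = (s * o' * (s * o')) * (o'⁻¹ * (s⁻¹ * o'⁻¹ * s)) by group, hee, one_mul]
      exact mul_mem (inv_mem (ho' ▸ hso))
        (conj_normal_mem' (le_normalizer_coreIn M (hS.le hs)) (inv_mem (ho' ▸ hso)))
    rw [show a * (o * e) * a⁻¹ = a * o * a⁻¹ * (s * (s⁻¹ * (a * e * a⁻¹))) by group]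
    exact mul_mem (mem_sup_right (conj_normal_mem (le_normalizer_coreIn M (hPM ha)) ho))
      (mul_mem (mem_sup_left (show s ∈ E from ⟨hs, hss⟩)) (mem_sup_right hso))
  set H := P ⊔ OE with hH
  have hHM : H ≤ M := sup_le hPM hOEM
  have hTH : T ≤ H := hTP.trans le_sup_left
  -- orders
  have hEOdisj : E ⊓ O = ⊥ :=
    (eq_bot_iff_forall _).2 fun g hg => hS.core g (mem_inf.1 hg).1.1 (mem_inf.1 hg).2
  have hcOE : Nat.card OE = Nat.card E * Nat.card O := by
    have := CfsgLib.PLocal.card_sup_mul_card_inf hEO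
    rwa [hEOdisj, card_bot, mul_one] at this
  have hcH := CfsgLib.PLocal.card_sup_mul_card_inf hPOE
  obtain ⟨kE, hkE⟩ := IsPGroup.iff_card.1 hE2
  have hqfact : ∀ j : ℕ, (2 ^ j).factorization q = 0 := fun j => by
    rw [Nat.prime_two.factorization_pow, Finsupp.single_eq_of_ne (by exact fun e => hq e)]
  have hOodd : Odd (Nat.card O) := R1Kill.odd_coreIn M
  have hPodd : Odd (Nat.card P) := odd_of_isPGroup Fact.out hq hP
  have hPHc : Nat.card P = q ^ (Nat.card H).factorization q := by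
    refine le_antisymm (card_le_of_isPGroup le_sup_left hP) ?_
    rw [hPc]
    refine Nat.pow_le_pow_right (Fact.out : q.Prime).pos ?_
    have h1 : (Nat.card ↥(P ⊔ OE)).factorization q + (Nat.card ↥(P ⊓ OE)).factorization q =
        qPart q M c d + (Nat.card O).factorization q := by
      have := congrArg (fun k => k.factorization q) hcH
      rw [Nat.factorization_mul Nat.card_pos.ne' Nat.card_pos.ne', Finsupp.add_apply,
        Nat.factorization_mul Nat.card_pos.ne' Nat.card_pos.ne', Finsupp.add_apply, hcOE, hkE,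
        Nat.factorization_mul (pow_ne_zero _ two_ne_zero) Nat.card_pos.ne', Finsupp.add_apply,
        hqfact, zero_add, hPc, (Fact.out : q.Prime).factorization_pow,
        Finsupp.single_eq_same] at this
      exact this
    have h2 := CfsgLib.AbelSolvCent.card_inf_of_max (E := O) (D := X) hOX
      (inf_le_left.trans (le_normalizer_coreIn M)) hPX hP
      (fun R hR h1 h2 => eq_of_sylow_card h1 h2 hR hPc)
    have h3 : (Nat.card ↥(P ⊓ O)).factorization q ≤ (Nat.card ↥(P ⊓ OE)).factorization q :=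
      CfsgLib.AbelSolvCent.factorization_le_of_le (inf_le_inf_left P le_sup_right)
    rw [h2, (Fact.out : q.Prime).factorization_pow, Finsupp.single_eq_same] at h3
    change (Nat.card ↥(P ⊔ OE)).factorization q ≤ qPart q M c d
    omega
  have hEH : E ≤ H := le_sup_left.trans le_sup_right
  have hEc : Nat.card E = 2 ^ (Nat.card H).factorization 2 := by
    refine le_antisymm (card_le_of_isPGroup hEH hE2) ?_
    rw [hkE]
    refine Nat.pow_le_pow_right (by norm_num) ?_
    have hd : Nat.card H ∣ Nat.card P * (Nat.card E * Nat.card O) := by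
      rw [← hcOE, ← hcH]; exact Dvd.intro _ rfl
    have h0 : Nat.card E * Nat.card O ≠ 0 := mul_ne_zero Nat.card_pos.ne' Nat.card_pos.ne'
    have := (Nat.factorization_le_iff_dvd Nat.card_pos.ne'
      (mul_ne_zero Nat.card_pos.ne' h0)).2 hd 2
    rwa [Nat.factorization_mul Nat.card_pos.ne' h0,
      Nat.factorization_mul Nat.card_pos.ne' Nat.card_pos.ne', Finsupp.add_apply, Finsupp.add_apply,
      Nat.factorization_eq_zero_of_not_dvd hPodd.not_two_dvd_nat,
      Nat.factorization_eq_zero_of_not_dvd hOodd.not_two_dvd_nat, hkE,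
      Nat.prime_two.factorization_pow, Finsupp.single_eq_same, zero_add, add_zero] at this
  haveI : Group.IsSolvable H := by
    haveI := CfsgLib.MinNonCA.isSolvable_of_odd O hOodd
    haveI := CfsgLib.MinNonCA.isSolvable_of_odd P hPodd
    haveI : Group.IsSolvable E := Group.isSolvable_of_comm fun a b =>
      Subtype.ext (hEab a a.2 b b.2).eq
    haveI : Group.IsSolvable OE := CfsgLib.MinNonCA.isSolvable_sup hEO
    exact CfsgLib.MinNonCA.isSolvable_sup hPOE
  have hab : ∀ S' : Sylow 2 H, IsMulCommutative S' := by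
    intro S'
    let E' : Sylow 2 H := Sylow.ofCard (E.subgroupOf H)
      (by rw [Nat.card_congr (subgroupOfEquivOfLe hEH).toEquiv, hEc])
    obtain ⟨e⟩ : Nonempty (↥(E' : Subgroup H) ≃* ↥(S' : Subgroup H)) := ⟨Sylow.equiv E' S'⟩
    exact ⟨⟨fun a b => e.symm.injective (by
      rw [map_mul, map_mul]
      exact Subtype.ext (Subtype.ext (hEab _ (e.symm a).2 _ (e.symm b).2).eq))⟩⟩
  have hfac := le_core_sup_zj hq hab le_sup_left hPHc
  set K := primeCoreIn q H with hK
  have hKodd : Odd (Nat.card K) := by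
    rw [← Nat.not_even_iff_odd]
    intro he
    obtain ⟨i, hiK, hio⟩ := exists_invol_mem he
    have hiM : i ∈ M := hHM (primeCoreIn_le q H hiK)
    obtain ⟨t, ht, hti⟩ := h.moved i hiM hio
    refine hti (commute_of_conj_eq (mul_inv_eq_one.1 ?_))
    have h1 : t * i * t⁻¹ * i⁻¹ ∈ T ⊓ K := mem_inf.2 ⟨by
        rw [show t * i * t⁻¹ * i⁻¹ = t * (i * t⁻¹ * i⁻¹) by group]
        exact mul_mem ht (conj_normal_mem (h.normal hiM) (inv_mem ht)),
      mul_mem (conj_normal_mem (le_normalizer_primeCoreIn q H (hTH ht)) hiK) (inv_mem hiK)⟩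
    rwa [CfsgLib.PLocal.disjoint_of_isPGroup_of_coprime h.isPGroup
      (CfsgLib.PLocal.not_dvd_iff_coprime.2 (not_dvd_primeCoreIn H)), mem_bot] at h1
  set N := normalizer (Cfsg.centerThompsonAOf P : Set G) with hN
  set NH := N ⊓ H with hNH
  have hNHK : NH ≤ normalizer (K : Set G) := inf_le_right.trans (le_normalizer_primeCoreIn q H)
  have h2part : (Nat.card H).factorization 2 ≤ (Nat.card NH).factorization 2 := by
    have h1 := congrArg (fun k => k.factorization 2) (CfsgLib.PLocal.card_sup_mul_card_inf hNHK)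
    have h2 := CfsgLib.AbelSolvCent.factorization_le_of_le (p := 2) hfac
    rw [Nat.factorization_mul Nat.card_pos.ne' Nat.card_pos.ne',
      Nat.factorization_mul Nat.card_pos.ne' Nat.card_pos.ne', Finsupp.add_apply,
      Finsupp.add_apply, Nat.factorization_eq_zero_of_not_dvd hKodd.not_two_dvd_nat] at h1
    omega
  obtain ⟨E₁⟩ : Nonempty (Sylow 2 NH) := inferInstance
  set E₂ := (E₁ : Subgroup NH).map NH.subtype
  have hE₂c : Nat.card E₂ = 2 ^ (Nat.card H).factorization 2 := by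
    rw [card_map_of_injective NH.subtype_injective, E₁.card_eq_multiplicity]
    congr 1
    exact le_antisymm (CfsgLib.AbelSolvCent.factorization_le_of_le inf_le_right) h2part
  have hE₂H : E₂ ≤ H := (map_subtype_le _).trans inf_le_right
  obtain ⟨l, hl, hlE⟩ := CfsgLib.AbelSolvCent.exists_conj_of_card_eq (p := 2) hE₂H hEH hE₂c hEc
  have hHc : H ≤ MulAction.stabilizer G c := sup_le (fun g hg => (hPX hg).2.1)
    (sup_le (fun g hg => hS.fix g hg.1) (fun g hg => (hOX hg).2.1))
  set V := V₀.map (MulAut.conj l).toMonoidHom with hV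
  have hVE₂ : V ≤ E₂ := hlE ▸ map_mono fun v hv => (show v ∈ E from ⟨hV₀S hv, hV₀.2 v hv⟩)
  have hVN : V ≤ N := hVE₂.trans ((map_subtype_le _).trans inf_le_left)
  have hVfour : IsFour V := ⟨by
      rw [hV, ← Nat.card_congr (V₀.equivMapOfInjective (MulAut.conj l).toMonoidHom
        (MulAut.conj l).injective).toEquiv, hV₀.1], by
      rintro _ ⟨v, hv, rfl⟩
      rw [← map_mul, hV₀.2 v hv, map_one]⟩
  have hVc : ∀ v ∈ V, v • c = c := fun v hv => hHc (hE₂H (hVE₂ hv))
  have hVM : V ≤ M := hVE₂.trans (hE₂H.trans hHM)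
  have hwN : w ∈ N := CfsgLib.PLocal.normalizer_le_normalizer_centerThompsonAOf P hwP
  refine ⟨P, hPX, hP, hTP, hPc, ?_, ⟨V, hVN, hVfour, hVc⟩, w, hwN, hwM, hw, hwP⟩
  intro R hR hPR hRD
  by_contra hne
  have hlt := CfsgLib.ConjFunctor.lt_inf_normalizer hR (lt_of_le_of_ne hPR (Ne.symm hne))
  obtain ⟨s, hsV, hso⟩ := hVfour.exists_invol
  obtain ⟨t, ht, hts⟩ := h.moved s (hVM hsV) hso
  obtain ⟨y, hy, e, -, hys, hes, rfl⟩ := exists_decomp
    (odd_of_isPGroup Fact.out hq h.isPGroup) (mul_self_of_orderOf_two hso) (h.normal (hVM hsV)) ht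
  have hy1 : y ≠ 1 := fun h1 => hts (by rw [h1, one_mul]; exact hes)
  have hyN : y ∈ N := CfsgLib.PLocal.normalizer_le_normalizer_centerThompsonAOf P
    (le_normalizer (hTP hy))
  have hPne : P ≠ ⊥ := fun h0 => hy1 (mem_bot.1 (h0 ▸ hTP hy))
  have hNtop : N ≠ ⊤ := normalizer_ne_top W (CfsgLib.PLocal.centerThompsonAOf_ne_bot hP hPne)
    (fun z hz => (hPX (CfsgLib.PLocal.centerThompsonAOf_le P hz)).2.1)
  have hR2 : IsR2 N c := isR2_at W hNtop hVfour hVN hVc ⟨w, hwN, by rw [hw.2]; exact h.ne⟩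
  have hyc : y • c = c := (hPX (hTP hy)).2.1
  obtain ⟨M', T', hmem, hle⟩ := exists_member W hNtop hR2 (hw.2 ▸ smul_mem_orbit hwN c) h.ne
    (hVN hsV) hso
    (inverted_mem_core hR2 ⟨hso, hVc s hsV⟩ (hVN hsV) hyN hyc hys
      (odd_orderOf_of_mem (odd_of_isPGroup Fact.out hq h.isPGroup) hy))
    (h.isPGroup.to_le (zpowers_le.2 hy)) hy1 hys
  have hcard := card_le_of_isPGroup (F := N ⊓ pairStab G c d)
    (le_inf (inf_le_right.trans (CfsgLib.PLocal.normalizer_le_normalizer_centerThompsonAOf P))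
      (inf_le_left.trans hRD)) (hR.to_le inf_le_left :
        IsPGroup q ↥(R ⊓ normalizer (P : Set G)))
  exact hlt.ne (eq_of_le_of_card_ge hlt.le (hcard.trans ((Nat.pow_le_pow_right
    (Fact.out : q.Prime).pos (hle.trans (hmax _ _ _ _ hmem))).trans hPc.ge)))

end CfsgLib.BenderWorld.R2Kill
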