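import Cfsg.Agent.BenderWorld.R2Kill.Basic

/-!
# The small case: all eigenspaces on the moved elementary group are cyclic

Slice C, step 5 (`docs/bender_R2_kill_helper89.md`): `T` is a normal elementary abelian `q`-subgroup
moved by every involution, and no eigenspace of a four group at the point contains two independent
elements.  Then the Sylow 2-subgroup at the point has three involutions, what fixes one of them and
two points of the orbit lies in the core, so the core has index at most three in `P`.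
-/

set_option autoImplicit false
set_option linter.style.haveILetI false
set_option linter.unusedSectionVars false
set_option linter.unusedVariables false

namespace CfsgLib.BenderWorld.R2Kill

open Subgroup CfsgLib.SEmbed CfsgLib.Small CfsgLib.BenderWorld.R1Kill

variable {G : Type*} [Group G]

/-- `a` is centralised or inverted by `v`. -/
def IsEigen (v a : G) : Prop := Commute a v ∨ v * a * v⁻¹ = a⁻¹

/-- Both elements are centralised, or both are inverted. -/
def SameSign (v a b : G) : Prop :=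
  (Commute a v ∧ Commute b v) ∨ (v * a * v⁻¹ = a⁻¹ ∧ v * b * v⁻¹ = b⁻¹)

theorem conj_of_commute {a v : G} (h : Commute a v) : v * a * v⁻¹ = a := by
  rw [← h.eq, mul_inv_cancel_right]

theorem commute_of_conj {a v : G} (h : v * a * v⁻¹ = a) : Commute a v :=
  (mul_inv_eq_iff_eq_mul.1 h).symm

theorem SameSign.one (a b : G) : SameSign 1 a b := Or.inl ⟨Commute.one_right a, Commute.one_right b⟩

theorem SameSign.mul {v w a b : G} (hv : SameSign v a b) (hw : SameSign w a b) :
    SameSign (v * w) a b := by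
  have key : ∀ x : G, v * w * x * (v * w)⁻¹ = v * (w * x * w⁻¹) * v⁻¹ := fun x => by
    simp [mul_assoc]
  have inv : ∀ x y : G, v * x * v⁻¹ = y → v * x⁻¹ * v⁻¹ = y⁻¹ := fun x y h => by
    rw [← h]; simp [mul_assoc]
  rcases hv with ⟨h1, h2⟩ | ⟨h1, h2⟩ <;> rcases hw with ⟨h3, h4⟩ | ⟨h3, h4⟩
  · exact Or.inl ⟨h1.mul_right h3, h2.mul_right h4⟩
  · refine Or.inr ⟨?_, ?_⟩
    · rw [key, h3]; exact inv _ _ (conj_of_commute h1)
    · rw [key, h4]; exact inv _ _ (conj_of_commute h2)
  · refine Or.inr ⟨?_, ?_⟩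
    · rw [key, conj_of_commute h3, h1]
    · rw [key, conj_of_commute h4, h2]
  · refine Or.inl ⟨commute_of_conj ?_, commute_of_conj ?_⟩
    · rw [key, h3, inv _ _ h1, inv_inv]
    · rw [key, h4, inv _ _ h2, inv_inv]

theorem IsEigen.conj {v a g : G} (h : IsEigen v a) (hg : Commute g v) :
    IsEigen v (g * a * g⁻¹) := by
  rcases h with h | h
  · exact Or.inl ((hg.mul_left h).mul_left hg.inv_left)
  · refine Or.inr ?_
    calc v * (g * a * g⁻¹) * v⁻¹ = (v * g) * a * (v * g)⁻¹ := by simp [mul_assoc]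
      _ = (g * v) * a * (g * v)⁻¹ := by rw [hg.eq]
      _ = g * (v * a * v⁻¹) * g⁻¹ := by simp [mul_assoc]
      _ = (g * a * g⁻¹)⁻¹ := by rw [h]; simp [mul_assoc]

theorem SameSign.of_eigen_conj {v a g : G} (h : IsEigen v a) (hg : Commute g v) :
    SameSign v a (g * a * g⁻¹) := by
  rcases h with h | h
  · exact Or.inl ⟨h, (hg.mul_left h).mul_left hg.inv_left⟩
  · rcases IsEigen.conj (Or.inr h) hg with h' | h'
    · refine Or.inl ⟨?_, h'⟩
      have h2 := (hg.inv_left.mul_left h').mul_left hg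
      simpa [mul_assoc] using h2
    · exact Or.inr ⟨h, h'⟩

variable [Finite G] {Ω : Type*} [MulAction G Ω]

/-- In the small case the core has index at most three in a `q`-subgroup of a pair stabiliser. -/
theorem card_le_three_mul (huf : UniqueFix G Ω) {q : ℕ} [Fact q.Prime] (hq : q ≠ 2)
    {M T : Subgroup G} {c d : Ω} (hR : IsR2 M c) (hd : d ∈ MulAction.orbit M c) (hdc : d ≠ c)
    (hTM : T ≤ M) (hn : M ≤ normalizer (T : Set G)) (hexp : ∀ t ∈ T, t ^ q = 1)
    (hab : ∀ a ∈ T, ∀ b ∈ T, Commute a b)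
    (hmov : ∀ i ∈ M, orderOf i = 2 → ∃ t ∈ T, ¬ Commute t i)
    (hcyc : ∀ V ≤ M, IsFour V → (∀ v ∈ V, v • c = c) → ∀ a ∈ T, ∀ b ∈ T, a ≠ 1 →
      (∀ v ∈ V, (Commute a v ∧ Commute b v) ∨ (v * a * v⁻¹ = a⁻¹ ∧ v * b * v⁻¹ = b⁻¹)) →
        b ∈ zpowers a)
    {P : Subgroup G} (hP : P ≤ M ⊓ pairStab G c d) (hPq : IsPGroup q P) :
    Nat.card P ≤ 3 * Nat.card (P ⊓ coreIn M : Subgroup G) := by
  classical
  obtain ⟨V, hVM, hV, hVc⟩ := hR.four
  obtain ⟨S, hVS, hS⟩ := exists_sys hR hV hVM hVc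
  have hqodd : Odd q := (Fact.out : q.Prime).odd_of_ne_two hq
  have hsq : ∀ v ∈ V, v * v = 1 := hV.2
  have hVcen : ∀ v ∈ V, ∀ g ∈ S, Commute g v := fun v hv g hg => by
    rcases eq_or_ne v 1 with rfl | h
    · exact Commute.one_right g
    · exact hS.central v (hVS hv) (hV.orderOf_eq_two hv h) g hg
  -- roots of squares in `T`
  have hroot : ∀ a ∈ T, ∀ B : Subgroup G, a ^ 2 ∈ B → a ∈ B := by
    intro a ha B h2
    obtain ⟨m, hm⟩ := exists_pow_eq_self_of_coprime (x := a) (n := 2) (Nat.coprime_two_left.2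
      (hqodd.of_dvd_nat (orderOf_dvd_of_pow_eq_one (hexp a ha))))
    rw [← hm]
    exact pow_mem h2 m
  have hfix1 : ∀ a ∈ T, a = a⁻¹ → a = 1 := fun a ha h => by
    refine mem_bot.1 (hroot a ha ⊥ (mem_bot.2 ?_))
    rw [sq]
    nth_rewrite 1 [h]
    exact inv_mul_cancel a
  -- splitting by an involution of `M`
  have split : ∀ v ∈ M, v * v = 1 → ∀ a ∈ T,
      a * (v * a * v⁻¹) ∈ T ∧ a * (v * a * v⁻¹)⁻¹ ∈ T ∧ Commute (a * (v * a * v⁻¹)) v ∧
      v * (a * (v * a * v⁻¹)⁻¹) * v⁻¹ = (a * (v * a * v⁻¹)⁻¹)⁻¹ ∧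
      a * (v * a * v⁻¹) * (a * (v * a * v⁻¹)⁻¹) = a ^ 2 := by
    intro v hv hvv a ha
    obtain ⟨b, hb⟩ : ∃ b, b = v * a * v⁻¹ := ⟨_, rfl⟩
    have hbT : b ∈ T := hb ▸ conj_normal_mem (hn hv) ha
    have hvb : v * b * v⁻¹ = a := by
      rw [hb, show v * (v * a * v⁻¹) * v⁻¹ = v * v * a * (v * v)⁻¹ by simp [mul_assoc], hvv,
        one_mul, inv_one, mul_one]
    have hc := hab a ha b hbT
    rw [← hb]
    refine ⟨mul_mem ha hbT, mul_mem ha (inv_mem hbT), commute_of_conj ?_, ?_, ?_⟩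
    · rw [conj_mul.symm, ← hb, hvb, hc.eq]
    · rw [conj_mul.symm, ← conj_inv, ← hb, hvb, mul_inv_rev, inv_inv]
    · rw [mul_assoc, ← mul_assoc b, ← hc.eq, mul_assoc a b, mul_inv_cancel, mul_one, sq]
  obtain ⟨v₁, hv₁, hv₁o⟩ := hV.exists_invol
  obtain ⟨v₂, hv₂, hv₂1, hv₂2⟩ : ∃ v₂ ∈ V, v₂ ≠ 1 ∧ v₂ ≠ v₁ := by
    by_contra h
    push Not at h
    have hle : V ≤ zpowers v₁ := fun v hv => by
      rcases eq_or_ne v 1 with rfl | hv1
      · exact one_mem _
      · rw [h v hv hv1]; exact mem_zpowers v₁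
    have h1 := card_le_of_le hle
    rw [hV.1, Nat.card_zpowers, hv₁o] at h1
    omega
  have hv₂o : orderOf v₂ = 2 := hV.orderOf_eq_two hv₂ hv₂1
  -- `V` is generated by `v₁`, `v₂`
  have hgenV : ∀ B : Subgroup G, v₁ ∈ B → v₂ ∈ B → V ≤ B := by
    intro B h1 h2
    have hW := isFour_closure_pair hv₁o hv₂o (Ne.symm hv₂2) (hV.commute hv₁ hv₂)
    have hle : closure ({v₁, v₂} : Set G) ≤ V := by
      rw [closure_le]
      rintro x (rfl | rfl)
      · exact hv₁
      · exact hv₂
    rw [← eq_of_le_of_card_ge hle (by rw [hW.1, hV.1]), closure_le]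
    rintro x (rfl | rfl)
    · exact h1
    · exact h2
  have hsameV : ∀ a b : G, SameSign v₁ a b → SameSign v₂ a b → ∀ v ∈ V, SameSign v a b := by
    intro a b h1 h2
    let B : Subgroup G :=
      { carrier := {v | v ∈ V ∧ SameSign v a b}
        one_mem' := ⟨V.one_mem, SameSign.one a b⟩
        mul_mem' := fun hx hy => ⟨V.mul_mem hx.1 hy.1, hx.2.mul hy.2⟩
        inv_mem' := fun {x} hx => by
          rw [inv_eq_of_mul_eq_one_right (hsq x hx.1)]; exact hx }
    exact fun v hv => (hgenV B ⟨hv₁, h1⟩ ⟨hv₂, h2⟩ hv).2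
  -- eigen elements generate `T`
  have gen : ∀ B : Subgroup G,
      (∀ a ∈ T, IsEigen v₁ a → IsEigen v₂ a → a ∈ B) → T ≤ B := by
    intro B hB a ha
    have step : ∀ x ∈ T, IsEigen v₁ x → x ∈ B := by
      intro x hx h1
      obtain ⟨hp, hm, hpc, hmi, hprod⟩ := split v₂ (hVM hv₂) (hsq v₂ hv₂) x hx
      have hconj := h1.conj (hV.commute hv₂ hv₁)
      have h1p : IsEigen v₁ (x * (v₂ * x * v₂⁻¹)) ∧ IsEigen v₁ (x * (v₂ * x * v₂⁻¹)⁻¹) := by
        have hx' : v₂ * x * v₂⁻¹ ∈ T := conj_normal_mem (hn (hVM hv₂)) hx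
        rcases SameSign.of_eigen_conj h1 (hV.commute hv₂ hv₁) with ⟨h3, h4⟩ | ⟨h3, h4⟩
        · exact ⟨Or.inl (h3.mul_left h4), Or.inl (h3.mul_left h4.inv_left)⟩
        · refine ⟨Or.inr ?_, Or.inr ?_⟩
          · rw [← conj_mul, h3, h4, ← mul_inv_rev, (hab x hx _ hx').eq]
          · rw [← conj_mul, ← conj_inv, h3, h4, ← mul_inv_rev, (hab _ (inv_mem hx') x hx).eq]
      refine hroot x hx B ?_
      rw [← hprod]
      exact mul_mem (hB _ hp h1p.1 (Or.inl hpc)) (hB _ hm h1p.2 (Or.inr hmi))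
    obtain ⟨hp, hm, hpc, hmi, hprod⟩ := split v₁ (hVM hv₁) (hsq v₁ hv₁) a ha
    refine hroot a ha B ?_
    rw [← hprod]
    exact mul_mem (step _ hp (Or.inl hpc)) (step _ hm (Or.inr hmi))
  -- an element commuting with `V` acts on every eigen element as a power
  have hpow : ∀ g ∈ M, Commute g v₁ → Commute g v₂ → ∀ a ∈ T, IsEigen v₁ a → IsEigen v₂ a →
      g * a * g⁻¹ ∈ zpowers a := by
    intro g hg h1 h2 a ha e1 e2
    rcases eq_or_ne a 1 with rfl | ha1
    · rw [mul_one, mul_inv_cancel]; exact one_mem _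
    · exact hcyc V hVM hV hVc a ha _ (conj_normal_mem (hn hg) ha) ha1
        (hsameV a _ (SameSign.of_eigen_conj e1 h1) (SameSign.of_eigen_conj e2 h2))
  -- the centraliser of `T` in `M` lies in the core
  have hCcore : ∀ g ∈ M, (∀ t ∈ T, Commute g t) → g ∈ coreIn M := by
    intro g hg hgT
    refine le_coreIn (N := M ⊓ centralizer (T : Set G)) inf_le_left ?_ ?_
      ⟨hg, mem_centralizer_iff.2 fun t ht => (hgT t ht).eq.symm⟩
    · refine fun m hm => mem_normalizer_of_conj fun y hy => ⟨mul_mem (mul_mem hm hy.1) (M.inv_mem hm),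
        mem_centralizer_iff.2 fun t ht => ?_⟩
      have h := mem_centralizer_iff.1 hy.2 _ (conj_normal_mem' (hn hm) ht)
      calc t * (m * y * m⁻¹) = m * (m⁻¹ * t * m * y) * m⁻¹ := by simp [mul_assoc]
        _ = m * (y * (m⁻¹ * t * m)) * m⁻¹ := by rw [h]
        _ = m * y * m⁻¹ * t := by simp [mul_assoc]
    · rw [← Nat.not_even_iff_odd]
      intro he
      obtain ⟨i, hi, hio⟩ := exists_invol_mem he
      obtain ⟨t, ht, hti⟩ := hmov i hi.1 hio
      exact hti (mem_centralizer_iff.1 hi.2 t ht)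
  have hcommcore : ∀ g ∈ M, ∀ g' ∈ M, Commute g v₁ → Commute g v₂ → Commute g' v₁ → Commute g' v₂ →
      g * g' * g⁻¹ * g'⁻¹ ∈ coreIn M := by
    intro g hg g' hg' h1 h2 h1' h2'
    refine hCcore _ (mul_mem (mul_mem (mul_mem hg hg') (inv_mem hg)) (inv_mem hg')) fun t ht => ?_
    let K : Subgroup G :=
      { carrier := {a | g * (g' * a * g'⁻¹) * g⁻¹ = g' * (g * a * g⁻¹) * g'⁻¹}
        one_mem' := by simp
        mul_mem' := fun {x y} (hx : g * (g' * x * g'⁻¹) * g⁻¹ = g' * (g * x * g⁻¹) * g'⁻¹)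
            (hy : g * (g' * y * g'⁻¹) * g⁻¹ = g' * (g * y * g⁻¹) * g'⁻¹) => by
          show g * (g' * (x * y) * g'⁻¹) * g⁻¹ = g' * (g * (x * y) * g⁻¹) * g'⁻¹
          calc g * (g' * (x * y) * g'⁻¹) * g⁻¹
              = (g * (g' * x * g'⁻¹) * g⁻¹) * (g * (g' * y * g'⁻¹) * g⁻¹) := by simp [mul_assoc]
            _ = _ := by rw [hx, hy]; simp [mul_assoc]
        inv_mem' := fun {x} (hx : g * (g' * x * g'⁻¹) * g⁻¹ = g' * (g * x * g⁻¹) * g'⁻¹) => by
          show g * (g' * x⁻¹ * g'⁻¹) * g⁻¹ = g' * (g * x⁻¹ * g⁻¹) * g'⁻¹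
          rw [← conj_inv, ← conj_inv, hx, ← conj_inv, ← conj_inv] }
    have hK : T ≤ K := gen K fun a ha e1 e2 => by
      obtain ⟨n, hn1⟩ := mem_zpowers_iff.1 (hpow g hg h1 h2 a ha e1 e2)
      obtain ⟨m, hm1⟩ := mem_zpowers_iff.1 (hpow g' hg' h1' h2' a ha e1 e2)
      show g * (g' * a * g'⁻¹) * g⁻¹ = g' * (g * a * g⁻¹) * g'⁻¹
      rw [← hm1, ← hn1, ← conj_zpow, ← conj_zpow, ← hm1, ← hn1, ← zpow_mul, ← zpow_mul, mul_comm]
    have h := hK (conj_normal_mem' (hn hg') (conj_normal_mem' (hn hg) ht))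
    change g * (g' * (g'⁻¹ * (g⁻¹ * t * g) * g') * g'⁻¹) * g⁻¹ =
      g' * (g * (g'⁻¹ * (g⁻¹ * t * g) * g') * g⁻¹) * g'⁻¹ at h
    simp only [mul_assoc, mul_inv_cancel_left, mul_inv_cancel, mul_one] at h
    show g * g' * g⁻¹ * g'⁻¹ * t = t * (g * g' * g⁻¹ * g'⁻¹)
    conv_lhs => rw [h]
    simp [mul_assoc]
  -- the involutions of `S` lie in `V`
  have hSV : ∀ i ∈ S, orderOf i = 2 → i ∈ V := by
    intro i hi hio
    by_contra hiV
    have hiM : i ∈ M := hS.le hi
    have hi1 : Commute i v₁ := hVcen v₁ hv₁ i hi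
    have hi2 : Commute i v₂ := hVcen v₂ hv₂ i hi
    have hii : i * i = 1 := mul_self_of_orderOf_two hio
    have hieig : ∀ a ∈ T, IsEigen v₁ a → IsEigen v₂ a → IsEigen i a := by
      intro a ha e1 e2
      rcases eq_or_ne a 1 with rfl | ha1
      · exact Or.inl (Commute.one_left i)
      obtain ⟨hp, hm, hpc, hmi, hprod⟩ := split i hiM hii a ha
      obtain ⟨n, hn1⟩ := mem_zpowers_iff.1 (hpow i hiM hi1 hi2 a ha e1 e2)
      have hcp : ∀ u ∈ zpowers a, u ≠ 1 → a ∈ zpowers u := fun u hu hu1 => by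
        obtain ⟨k, hk⟩ := mem_zpowers_iff.1 hu
        have : Fact (Nat.card (zpowers a)).Prime := ⟨by
          rw [Nat.card_zpowers, orderOf_eq_prime (hexp a ha) ha1]; exact Fact.out⟩
        obtain ⟨l, hl⟩ := mem_zpowers_iff.1 (mem_zpowers_of_prime_card (G := zpowers a) rfl
          (g := ⟨u, hu⟩) (g' := ⟨a, mem_zpowers a⟩) (fun h => hu1 (congrArg Subtype.val h)))
        exact mem_zpowers_iff.2 ⟨l, by simpa using congrArg Subtype.val hl⟩
      rcases eq_or_ne (a * (i * a * i⁻¹)) 1 with hp1 | hp1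
      · exact Or.inr (mul_eq_one_iff_inv_eq.1 hp1).symm
      · have hmem : a * (i * a * i⁻¹) ∈ zpowers a :=
          mul_mem (mem_zpowers a) (by rw [← hn1]; exact zpow_mem (mem_zpowers a) n)
        obtain ⟨l, hl⟩ := mem_zpowers_iff.1 (hcp _ hmem hp1)
        exact Or.inl (hl ▸ hpc.zpow_left l)
    have hsamei : ∀ a ∈ T, ∀ b ∈ T, a ≠ 1 → b ≠ 1 → IsEigen v₁ a → IsEigen v₂ a → IsEigen v₁ b →
        IsEigen v₂ b → b ∈ zpowers a := by
      intro a ha b hb ha1 hb1 a1 a2 b1 b2
      have ai := hieig a ha a1 a2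
      have bi := hieig b hb b1 b2
      by_contra hne
      -- the elements acting with one sign on both, or with opposite signs
      have opp : ∀ {v w : G}, IsEigen v a → IsEigen v b → ¬ SameSign v a b → IsEigen w a →
          IsEigen w b → ¬ SameSign w a b → SameSign (w * v) a b := by
        intro v w va vb hv wa wb hw
        have key : ∀ x : G, w * v * x * (w * v)⁻¹ = w * (v * x * v⁻¹) * w⁻¹ := fun x => by
          simp [mul_assoc]
        rcases va with va | va <;> rcases vb with vb | vb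
        · exact absurd (Or.inl ⟨va, vb⟩) hv
        · rcases wa with wa | wa <;> rcases wb with wb | wb
          · exact absurd (Or.inl ⟨wa, wb⟩) hw
          · refine Or.inl ⟨wa.mul_right va, commute_of_conj ?_⟩
            rw [key, vb, ← conj_inv, wb, inv_inv]
          · refine Or.inr ⟨?_, ?_⟩
            · rw [key, conj_of_commute va, wa]
            · rw [key, vb, ← conj_inv, conj_of_commute wb]
          · exact absurd (Or.inr ⟨wa, wb⟩) hw
        · rcases wa with wa | wa <;> rcases wb with wb | wb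
          · exact absurd (Or.inl ⟨wa, wb⟩) hw
          · refine Or.inr ⟨?_, ?_⟩
            · rw [key, va, ← conj_inv, conj_of_commute wa]
            · rw [key, conj_of_commute vb, wb]
          · refine Or.inl ⟨commute_of_conj ?_, wb.mul_right vb⟩
            rw [key, va, ← conj_inv, wa, inv_inv]
          · exact absurd (Or.inr ⟨wa, wb⟩) hw
        · exact absurd (Or.inr ⟨va, vb⟩) hv
      have core : ∀ u e f : G, u ∈ S → e ∈ S → f ∈ S → orderOf u = 2 → orderOf e = 2 →
          orderOf f = 2 → IsEigen u a → IsEigen u b → ¬ SameSign u a b →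
          IsEigen e a → IsEigen e b → IsEigen f a → IsEigen f b →
          e ≠ u → f ≠ u → e ≠ f → e ≠ f * u → False := by
        intro u e f hu he hf huo heo hfo ua ub hus ea eb fa fb heu hfu hef hefu
        have hsqS : ∀ z : G, orderOf z = 2 → z * z = 1 := fun z hz => mul_self_of_orderOf_two hz
        have pick : ∀ e : G, e ∈ S → orderOf e = 2 → IsEigen e a → IsEigen e b → e ≠ u →
            ∃ e', (e' = e ∨ e' = e * u) ∧ e' ∈ S ∧ orderOf e' = 2 ∧ SameSign e' a b := by
          intro e he heo ea eb heu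
          by_cases hes : SameSign e a b
          · exact ⟨e, Or.inl rfl, he, heo, hes⟩
          · refine ⟨e * u, Or.inr rfl, mul_mem he hu, orderOf_eq_prime ?_ fun h => heu ?_,
              opp ua ub hus ea eb hes⟩
            · rw [sq, (hS.central u hu huo e he).symm.mul_mul_mul_comm, hsqS e heo, hsqS u huo,
                one_mul]
            · rw [mul_eq_one_iff_eq_inv.1 h, inv_eq_self_of_orderOf_two huo]
        obtain ⟨e', he', he'S, he'o, he's⟩ := pick e he heo ea eb heu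
        obtain ⟨f', hf', hf'S, hf'o, hf's⟩ := pick f hf hfo fa fb hfu
        have hne' : e' ≠ f' := by
          intro h
          rcases he' with rfl | rfl <;> rcases hf' with rfl | rfl
          · exact hef h
          · exact hefu h
          · exact hefu (by rw [← h, mul_assoc, hsqS u huo, mul_one])
          · exact hef (mul_right_cancel h)
        have hW := isFour_closure_pair he'o hf'o hne' (hS.central f' hf'S hf'o e' he'S)
        have hWS : closure ({e', f'} : Set G) ≤ S := by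
          rw [closure_le]
          rintro x (rfl | rfl)
          · exact he'S
          · exact hf'S
        let B : Subgroup G :=
          { carrier := {v | v ∈ closure ({e', f'} : Set G) ∧ SameSign v a b}
            one_mem' := ⟨one_mem _, SameSign.one a b⟩
            mul_mem' := fun hx hy => ⟨mul_mem hx.1 hy.1, hx.2.mul hy.2⟩
            inv_mem' := fun {x} hx => by
              rw [inv_eq_of_mul_eq_one_right (hW.2 x hx.1)]; exact hx }
        have hB : closure ({e', f'} : Set G) ≤ B := by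
          rw [closure_le]
          rintro x (rfl | rfl)
          · exact ⟨subset_closure (Or.inl rfl), he's⟩
          · exact ⟨subset_closure (Or.inr rfl), hf's⟩
        exact hne (hcyc _ (hWS.trans hS.le) hW (fun v hv => hS.fix v (hWS hv)) a ha b hb ha1
          fun v hv => (hB hv).2)
      have hiv₁ : i ≠ v₁ := fun h => hiV (h ▸ hv₁)
      have hiv₂ : i ≠ v₂ := fun h => hiV (h ▸ hv₂)
      by_cases hs1 : SameSign v₁ a b
      · by_cases hs2 : SameSign v₂ a b
        · exact hne (hcyc V hVM hV hVc a ha b hb ha1 (hsameV a b hs1 hs2))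
        · exact core v₂ v₁ i (hVS hv₂) (hVS hv₁) hi hv₂o hv₁o hio a2 b2 hs2 a1 b1 ai bi
            (Ne.symm hv₂2) hiv₂ (Ne.symm hiv₁) fun h => hiV (by
              have : i = v₁ * v₂ := by rw [h, mul_assoc, hsq v₂ hv₂, mul_one]
              rw [this]; exact mul_mem hv₁ hv₂)
      · exact core v₁ v₂ i (hVS hv₁) (hVS hv₂) hi hv₁o hv₂o hio a1 b1 hs1 a2 b2 ai bi
            hv₂2 hiv₁ (Ne.symm hiv₂) fun h => hiV (by
              have : i = v₂ * v₁ := by rw [h, mul_assoc, hsq v₁ hv₁, mul_one]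
              rw [this]; exact mul_mem hv₂ hv₁)
    -- `T` is a single line, so some involution of `V` centralises it
    obtain ⟨t, ht, htv⟩ := hmov v₁ (hVM hv₁) hv₁o
    obtain ⟨a, haT, ha1, a1, a2⟩ : ∃ a ∈ T, a ≠ 1 ∧ IsEigen v₁ a ∧ IsEigen v₂ a := by
      by_contra h
      push Not at h
      have := gen ⊥ (fun a ha e1 e2 => by
        by_contra ha1
        exact h a ha (fun hh => ha1 (mem_bot.2 hh)) e1 e2) ht
      rw [mem_bot.1 this] at htv
      exact htv (Commute.one_left _)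
    have hline : T ≤ zpowers a := gen _ fun b hb b1 b2 => by
      rcases eq_or_ne b 1 with rfl | hb1
      · exact one_mem _
      · exact hsamei a haT b hb ha1 hb1 a1 a2 b1 b2
    obtain ⟨v, hv, hvo, hav⟩ : ∃ v ∈ V, orderOf v = 2 ∧ Commute a v := by
      rcases a1 with h1 | h1
      · exact ⟨v₁, hv₁, hv₁o, h1⟩
      rcases a2 with h2 | h2
      · exact ⟨v₂, hv₂, hv₂o, h2⟩
      refine ⟨v₁ * v₂, mul_mem hv₁ hv₂, hV.orderOf_eq_two (mul_mem hv₁ hv₂) (fun h => hv₂2 ?_),
        commute_of_conj ?_⟩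
      · rw [← inv_eq_of_mul_eq_one_right h, inv_eq_self_of_orderOf_two hv₁o]
      · rw [show v₁ * v₂ * a * (v₁ * v₂)⁻¹ = v₁ * (v₂ * a * v₂⁻¹) * v₁⁻¹ by simp [mul_assoc], h2,
          ← conj_inv, h1, inv_inv]
    obtain ⟨u, hu, huv⟩ := hmov v (hVM hv) hvo
    obtain ⟨n, rfl⟩ := mem_zpowers_iff.1 (hline hu)
    exact huv (hav.zpow_left n)
  -- normalised representatives
  have hrep : ∀ g : P, ∃ k, k ∈ M ∧ k ∈ normalizer (S : Set G) ∧ k • c = c ∧ k • d = d ∧
      k * (g : G)⁻¹ ∈ coreIn M := by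
    rintro ⟨g, hg⟩
    obtain ⟨hgM, hgc, hgd⟩ := hP hg
    obtain ⟨o, ho, hog⟩ := hS.normal g hgM hgc
    refine ⟨o * g, mul_mem (coreIn_le M ho) hgM, hog, ?_, ?_, by
      rw [mul_inv_cancel_right]; exact ho⟩
    · rw [mul_smul, show g • c = c from hgc, core_fix_orbit hR ho (MulAction.mem_orbit_self c)]
    · rw [mul_smul, show g • d = d from hgd, core_fix_orbit hR ho hd]
  choose k hkM hkS hkc hkd hk using hrep
  have hkV : ∀ (h : G), h ∈ normalizer (S : Set G) → ∀ v ∈ V, v ≠ 1 → h * v * h⁻¹ ∈ V ∧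
      h * v * h⁻¹ ≠ 1 := fun h hh v hv hv1 => by
    have ho : orderOf (h * v * h⁻¹) = 2 := (orderOf_conj_eq h v).trans (hV.orderOf_eq_two hv hv1)
    exact ⟨hSV _ (conj_normal_mem hh (hVS hv)) ho, ne_one_of_orderOf_two ho⟩
  -- what fixes `v₁` and two points lies in the core
  have hcore : ∀ h ∈ M, h ∈ normalizer (S : Set G) → h • c = c → h • d = d → Commute h v₁ →
      h ∈ coreIn M := by
    intro h hhM hhS hhc hhd hh1
    have hodd : Odd (orderOf h) := by
      rw [← Nat.not_even_iff_odd]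
      intro he
      rw [← Nat.card_zpowers] at he
      obtain ⟨j, hj, hjo⟩ := exists_invol_mem he
      have hle : zpowers h ≤ MulAction.stabilizer G c ⊓ MulAction.stabilizer G d :=
        zpowers_le.2 ⟨hhc, hhd⟩
      exact hdc (huf.unique j hjo d c (hle hj).2 (hle hj).1)
    have h2 : Commute h v₂ := by
      have hh2 := hkV h hhS v₂ hv₂ hv₂1
      have hh2' := hkV h hhS _ hh2.1 hh2.2
      suffices h3 : Commute (h ^ 2) v₂ by
        obtain ⟨m, hm⟩ := exists_pow_eq_self_of_coprime (x := h) (n := 2)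
          (Nat.coprime_two_left.2 hodd)
        rw [← hm]
        exact h3.pow_left m
      -- `h` fixes `v₁`, so it permutes `v₂` and `v₁ v₂`
      have cases3 : ∀ x ∈ V, x ≠ 1 → x ≠ v₁ → x = v₂ ∨ x = v₁ * v₂ := by
        intro x hx hx1 hxv
        by_contra hcon
        push Not at hcon
        have hle : ({1, v₁, v₂, v₁ * v₂, x} : Finset G).card ≤ Nat.card V := by
          rw [← Nat.card_eq_finsetCard]
          refine Nat.card_le_card_of_injective
            (fun y => (⟨y.1, by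
              obtain ⟨y, hy⟩ := y
              simp only [Finset.mem_insert, Finset.mem_singleton] at hy
              rcases hy with rfl | rfl | rfl | rfl | rfl
              · exact one_mem _
              · exact hv₁
              · exact hv₂
              · exact mul_mem hv₁ hv₂
              · exact hx⟩ : V)) fun y z hyz => ?_
          have := congrArg Subtype.val hyz
          exact Subtype.ext this
        have h12 : v₁ * v₂ ≠ 1 := fun h => hv₂2 (by
          rw [← inv_eq_of_mul_eq_one_right h, inv_eq_self_of_orderOf_two hv₁o])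
        have hv1 := ne_one_of_orderOf_two hv₁o
        rw [hV.1, Finset.card_insert_of_notMem, Finset.card_insert_of_notMem,
          Finset.card_insert_of_notMem, Finset.card_insert_of_notMem, Finset.card_singleton] at hle
        · omega
        · simpa using Ne.symm hcon.2
        · simp [Ne.symm hcon.1, hv1]
        · simp [Ne.symm hv₂2, Ne.symm hxv, hv₂1]
        · simp [Ne.symm hv1, Ne.symm hv₂1, Ne.symm h12, Ne.symm hx1]
      have hne : ∀ x : G, x ≠ v₁ → h * x * h⁻¹ ≠ v₁ := fun x hx he => hx (by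
        have : h * x * h⁻¹ = h * v₁ * h⁻¹ := by rw [he, hh1.eq, mul_inv_cancel_right]
        exact mul_left_cancel (mul_right_cancel this))
      show h ^ 2 * v₂ = v₂ * h ^ 2
      rw [← mul_inv_eq_iff_eq_mul, show h ^ 2 * v₂ * (h ^ 2)⁻¹ = h * (h * v₂ * h⁻¹) * h⁻¹ by
        simp [sq, mul_assoc]]
      rcases cases3 _ hh2.1 hh2.2 (hne _ hv₂2) with e | e
      · rw [e, e]
      · rcases cases3 _ hh2'.1 hh2'.2 (hne _ (hne _ hv₂2)) with e' | e'
        · exact e'
        · exfalso
          have h3 : h * v₂ * h⁻¹ = v₂ := mul_left_cancel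
            (mul_right_cancel ((e'.trans e.symm) : h * (h * v₂ * h⁻¹) * h⁻¹ = h * v₂ * h⁻¹))
          rw [h3] at e
          exact ne_one_of_orderOf_two hv₁o (right_eq_mul.1 e)
    refine mem_core_of_fix_orbit huf hR hhM fun x hx => ?_
    rcases eq_or_ne x c with rfl | hxc
    · exact hhc
    obtain ⟨s, hs, rfl⟩ := hS.trans d hd x hx hdc hxc
    have hcs : h * s * h⁻¹ * s⁻¹ = 1 := hS.core _ (mul_mem (conj_normal_mem hhS hs) (inv_mem hs))
      (hcommcore h hhM s (hS.le hs) hh1 h2 (hVcen v₁ hv₁ s hs) (hVcen v₂ hv₂ s hs))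
    rw [smul_smul, mul_inv_eq_iff_eq_mul.1 (mul_inv_eq_one.1 hcs), mul_smul, hhd]
  -- the index
  set P₀ := (P ⊓ coreIn M).subgroupOf P
  have hidx : P₀.index ≤ 3 := by
    have hsel : ∀ g : P, k g * v₁ * (k g)⁻¹ ∈ V ∧ k g * v₁ * (k g)⁻¹ ≠ 1 := fun g =>
      hkV _ (hkS g) v₁ hv₁ (ne_one_of_orderOf_two hv₁o)
    let ψ : P ⧸ P₀ → {v : V // v ≠ 1} := fun z =>
      ⟨⟨_, (hsel z.out).1⟩, fun h => (hsel z.out).2 (congrArg Subtype.val h)⟩
    have hψ : Function.Injective ψ := by
      intro y z hyz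
      have he : k y.out * v₁ * (k y.out)⁻¹ = k z.out * v₁ * (k z.out)⁻¹ :=
        congrArg (fun w : {v : V // v ≠ 1} => ((w : V) : G)) hyz
      obtain ⟨g, hgdef⟩ : ∃ g : G, g = (k y.out)⁻¹ * k z.out := ⟨_, rfl⟩
      have hmem : g ∈ coreIn M := by
        rw [hgdef]
        refine hcore _ (mul_mem (inv_mem (hkM _)) (hkM _)) (mul_mem (inv_mem (hkS _)) (hkS _))
          ?_ ?_ ?_
        · rw [mul_smul, hkc, inv_smul_eq_iff, hkc]
        · rw [mul_smul, hkd, inv_smul_eq_iff, hkd]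
        · calc (k y.out)⁻¹ * k z.out * v₁
              = (k y.out)⁻¹ * (k z.out * v₁ * (k z.out)⁻¹) * k z.out := by simp [mul_assoc]
            _ = (k y.out)⁻¹ * (k y.out * v₁ * (k y.out)⁻¹) * k z.out := by rw [he]
            _ = v₁ * ((k y.out)⁻¹ * k z.out) := by simp [mul_assoc]
      have hyz' : ((y.out : P) : G)⁻¹ * ((z.out : P) : G) ∈ coreIn M := by
        obtain ⟨o₁, ho₁, e₁⟩ : ∃ o ∈ coreIn M, k y.out = o * (y.out : P) :=
          ⟨_, hk y.out, by rw [inv_mul_cancel_right]⟩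
        obtain ⟨o₂, ho₂, e₂⟩ : ∃ o ∈ coreIn M, k z.out = o * (z.out : P) :=
          ⟨_, hk z.out, by rw [inv_mul_cancel_right]⟩
        have hy := (hP (y.out).2).1
        have hz := (hP (z.out).2).1
        rw [hgdef, e₁, e₂] at hmem
        have h2 : ((y.out : P) : G)⁻¹ * (o₁⁻¹ * o₂) * (y.out : P) ∈ coreIn M :=
          conj_normal_mem' (le_normalizer_coreIn M hy) (mul_mem (inv_mem ho₁) ho₂)
        have h3 := mul_mem (inv_mem h2) hmem
        convert h3 using 1
        simp [mul_assoc]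
      rw [← Quotient.out_eq y, ← Quotient.out_eq z]
      exact Quotient.sound (QuotientGroup.leftRel_apply.2
        (mem_subgroupOf.2 ⟨mul_mem (P.inv_mem (y.out).2) (z.out).2, hyz'⟩))
    have h1 := Nat.card_le_card_of_injective ψ hψ
    have h2 : Nat.card {v : V // v ≠ 1} = 3 := by
      haveI := Fintype.ofFinite V
      rw [Nat.card_eq_fintype_card, Fintype.card_subtype_compl, Fintype.card_subtype_eq,
        ← Nat.card_eq_fintype_card, hV.1]
    rw [h2] at h1
    exact h1
  have h1 := P₀.card_mul_index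
  rw [Nat.card_congr (subgroupOfEquivOfLe inf_le_left).toEquiv] at h1
  rw [← h1, mul_comm]
  exact Nat.mul_le_mul_right _ hidx

end CfsgLib.BenderWorld.R2Kill
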