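import Cfsg.Agent.BenderWorld.R1Kill.Odd

/-!
# A `q'`-group normalised by a large `q`-subgroup lies in the `q'`-core

In a group of odd order a `q'`-subgroup normalised by a `q`-subgroup of index at most three in a
Sylow subgroup lies in the `q'`-core: an automorphism of odd order centralises a section of order at
most three.
-/

set_option autoImplicit false
set_option linter.style.haveILetI false

namespace CfsgLib.BenderWorld.R2Kill

open Subgroup CfsgLib.BenderWorld.R1Kill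

/-- An element of odd order prime to `q` fixing a subgroup of index at most three of a normal
`q`-group pointwise centralises that group. -/
theorem commute_of_index_le_three {K : Type*} [Group K] [Finite K] {q : ℕ} [Fact q.Prime]
    {R R₀ : Subgroup K} [R.Normal] (hR : IsPGroup q R) (hle : R₀ ≤ R)
    (h3 : R₀.relIndex R ≤ 3) {x : K} (hodd : Odd (orderOf x)) (hxq : (orderOf x).Coprime q)
    (hfix : ∀ a ∈ R₀, Commute x a) : ∀ r ∈ R, Commute x r := by
  intro r hr
  -- a power of `x` fixing the coset of `r` centralises `r`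
  have key : ∀ n : ℕ, r⁻¹ * (x ^ n * r * (x ^ n)⁻¹) ∈ R₀ → Commute (x ^ n) r := by
    intro n hn
    obtain ⟨a, ha⟩ : ∃ a, a = r⁻¹ * (x ^ n * r * (x ^ n)⁻¹) := ⟨_, rfl⟩
    have haR : a ∈ R₀ := ha ▸ hn
    have hxa : Commute (x ^ n) a := (hfix a haR).pow_left n
    have hstep : ∀ m : ℕ, (x ^ n) ^ m * r * ((x ^ n) ^ m)⁻¹ = r * a ^ m := by
      intro m
      induction m with
      | zero => simp
      | succ m ih =>
        rw [show (x ^ n) ^ (m + 1) * r * ((x ^ n) ^ (m + 1))⁻¹ =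
          x ^ n * ((x ^ n) ^ m * r * ((x ^ n) ^ m)⁻¹) * (x ^ n)⁻¹ by rw [pow_succ']; group, ih,
          show x ^ n * (r * a ^ m) * (x ^ n)⁻¹ =
            (x ^ n * r * (x ^ n)⁻¹) * (x ^ n * a ^ m * (x ^ n)⁻¹) by group,
          (hxa.pow_right m).eq, mul_inv_cancel_right, pow_succ',
          show x ^ n * r * (x ^ n)⁻¹ = r * a by rw [ha]; group, mul_assoc]
    have h1 := hstep (orderOf x)
    rw [← pow_mul, mul_comm n, pow_mul, pow_orderOf_eq_one, one_pow, inv_one, one_mul, mul_one,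
      left_eq_mul] at h1
    obtain ⟨k, hk⟩ := hR ⟨a, hle haR⟩
    have ha1 : a = 1 := orderOf_eq_one_iff.1 (Nat.eq_one_of_dvd_coprimes
      (hxq.pow_right k) (orderOf_dvd_of_pow_eq_one h1)
      (orderOf_dvd_of_pow_eq_one (congrArg Subtype.val hk)))
    have h2 := hstep 1
    rw [pow_one, pow_one, ha1, mul_one] at h2
    exact mul_inv_eq_iff_eq_mul.1 h2
  suffices h : Commute (x ^ 2) r by
    obtain ⟨m, hm⟩ := exists_pow_eq_self_of_coprime (x := x) (n := 2) (Nat.coprime_two_left.2 hodd)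
    rw [← hm]
    exact h.pow_left m
  -- two of the four cosets agree
  set f : Fin 4 → (↥R ⧸ R₀.subgroupOf R) := ![QuotientGroup.mk ⟨1, R.one_mem⟩,
    QuotientGroup.mk ⟨r, hr⟩,
    QuotientGroup.mk ⟨x * r * x⁻¹, (inferInstance : R.Normal).conj_mem r hr x⟩,
    QuotientGroup.mk ⟨x ^ 2 * r * (x ^ 2)⁻¹, (inferInstance : R.Normal).conj_mem r hr (x ^ 2)⟩]
    with hf
  have hninj : ¬ Function.Injective f := fun h => by
    have h1 := (Nat.card_le_card_of_injective f h).trans h3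
    simp at h1
  have hback : ∀ a : K, a ∈ R₀ → x⁻¹ * a * x = a := fun a ha => by
    rw [mul_assoc, ← (hfix a ha).eq, inv_mul_cancel_left]
  have h01 : r ∈ R₀ → Commute (x ^ 2) r := fun h => (hfix r h).pow_left 2
  have h02 : x * r * x⁻¹ ∈ R₀ → Commute (x ^ 2) r := fun h => h01 (by
    have := hback _ h
    rw [show x⁻¹ * (x * r * x⁻¹) * x = r by group] at this
    rwa [this])
  have h12 : r⁻¹ * (x * r * x⁻¹) ∈ R₀ → Commute (x ^ 2) r := fun h => by
    have := key 1 (by rwa [pow_one])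
    rw [pow_one] at this
    exact this.pow_left 2
  have hmk : ∀ {a b : K} (ha : a ∈ R) (hb : b ∈ R),
      ((QuotientGroup.mk ⟨a, ha⟩ : ↥R ⧸ R₀.subgroupOf R) = QuotientGroup.mk ⟨b, hb⟩) →
        a⁻¹ * b ∈ R₀ := fun ha hb h => mem_subgroupOf.1 (QuotientGroup.eq.1 h)
  simp only [Function.Injective, not_forall] at hninj
  obtain ⟨i, j, hij, hne⟩ := hninj
  wlog hlt : i < j generalizing i j
  · exact this j i hij.symm (Ne.symm hne) (lt_of_le_of_ne (not_lt.1 hlt) (Ne.symm hne))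
  fin_cases i <;> fin_cases j <;> simp [hf] at hlt hij ⊢
  · exact h01 (by simpa using hmk _ _ hij)
  · exact h02 (by simpa using hmk _ _ hij)
  · refine h01 ?_
    have h := hmk _ _ hij
    rw [inv_one, one_mul] at h
    have h' := hback _ h
    have h'' := hback _ h
    rw [show x⁻¹ * (x ^ 2 * r * (x ^ 2)⁻¹) * x = x * r * x⁻¹ by group] at h'
    rw [← h'] at h
    have h3' := hback _ h
    rw [show x⁻¹ * (x * r * x⁻¹) * x = r by group] at h3'
    rwa [← h3'] at h
  · exact h12 (hmk _ _ hij)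
  · exact key 2 (hmk _ _ hij)
  · refine h12 ?_
    have h := hmk _ _ hij
    have h' := hback _ h
    rw [show x⁻¹ * ((x * r * x⁻¹)⁻¹ * (x ^ 2 * r * (x ^ 2)⁻¹)) * x =
      r⁻¹ * (x * r * x⁻¹) by group] at h'
    rwa [← h'] at h

variable {G : Type*} [Group G] [Finite G]

/-- In a group of odd order a `q'`-subgroup normalised by a `q`-subgroup of index at most three in
a Sylow `q`-subgroup lies in the `q'`-core. -/
theorem le_primeCoreIn_of_index {q : ℕ} [Fact q.Prime] {D T X : Subgroup G}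
    (hD : Odd (Nat.card D)) (hTD : T ≤ D) (hT : IsPGroup q T)
    (hidx : q ^ (Nat.card D).factorization q ≤ 3 * Nat.card T)
    (hXD : X ≤ D) (hTX : T ≤ normalizer (X : Set G)) (hX : ¬ q ∣ Nat.card X) :
    X ≤ primeCoreIn q D := by
  haveI : Group.IsSolvable D := CfsgLib.MinNonCA.isSolvable_of_odd D hD
  set O := Cfsg.pPrimeCore q ↥D
  set π := QuotientGroup.mk' O
  set R := Cfsg.pCore q (↥D ⧸ O)
  have hC : centralizer (R : Set (↥D ⧸ O)) ≤ R := CfsgLib.PLocal.centralizer_pCore_le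
    (CfsgLib.PLocal.isPSolvable_quotient CfsgLib.PLocal.isPSolvable_of_isSolvable O)
    (CfsgLib.PLocal.pPrimeCore_quotient_pPrimeCore_eq_bot q ↥D)
  haveI : R.Normal := CfsgLib.Solvable.pCore_normal q
  set T' := (T.subgroupOf D).map π
  have hT' : IsPGroup q T' := (hT.of_equiv (subgroupOfEquivOfLe hTD).symm).map π
  have hqO : (Nat.card O).Coprime q := CfsgLib.PLocal.coprime_card_pPrimeCore q ↥D
  have hTcard : Nat.card T ≤ Nat.card T' := by
    refine Nat.card_le_card_of_injective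
      (fun t : T => (⟨π ⟨t, hTD t.2⟩, ⟨_, t.2, rfl⟩⟩ : T')) fun a b hab => ?_
    have h1 : (⟨a, hTD a.2⟩ : ↥D)⁻¹ * ⟨b, hTD b.2⟩ ∈ O := QuotientGroup.eq.1 (congrArg Subtype.val hab)
    obtain ⟨k, hk⟩ := hT (a⁻¹ * b)
    have h2 : (⟨a, hTD a.2⟩ : ↥D)⁻¹ * ⟨b, hTD b.2⟩ = 1 := orderOf_eq_one_iff.1
      (Nat.eq_one_of_dvd_coprimes (hqO.pow_right k) (orderOf_dvd_natCard _ h1)
        (orderOf_dvd_of_pow_eq_one (Subtype.ext (by simpa using congrArg Subtype.val hk))))
    exact Subtype.ext (inv_mul_eq_one.1 (congrArg Subtype.val h2))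
  obtain ⟨P, hP⟩ := hT'.exists_le_sylow
  have hRP : R ≤ (P : Subgroup (↥D ⧸ O)) := CfsgLib.PLocal.pCore_le_sylow P
  have h3 : (R ⊓ T').relIndex R ≤ 3 := by
    rw [inf_relIndex_left]
    refine (relIndex_le_of_le_right hRP Nat.card_pos.ne').trans ?_
    have hPc : Nat.card (P : Subgroup (↥D ⧸ O)) ≤ q ^ (Nat.card D).factorization q := by
      rw [P.card_eq_multiplicity]
      exact Nat.pow_le_pow_right (Fact.out : q.Prime).pos
        ((Nat.factorization_le_iff_dvd Nat.card_pos.ne' Nat.card_pos.ne').2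
          (card_quotient_dvd_card O) q)
    have hmul := relIndex_mul_relIndex ⊥ T' (P : Subgroup (↥D ⧸ O)) bot_le hP
    rw [relIndex_bot_left, relIndex_bot_left, mul_comm] at hmul
    have hpos : 0 < Nat.card T' := Nat.card_pos
    refine Nat.le_of_mul_le_mul_right ?_ hpos
    calc T'.relIndex (P : Subgroup (↥D ⧸ O)) * Nat.card T' ≤ 3 * Nat.card T := by
          rw [hmul]; exact hPc.trans hidx
      _ ≤ 3 * Nat.card T' := Nat.mul_le_mul_left _ hTcard
  set X' := (X.subgroupOf D).map π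
  have hX' : (Nat.card X').Coprime q := by
    refine Nat.Coprime.coprime_dvd_left (card_map_dvd _ _) ?_
    rw [Nat.card_congr (subgroupOfEquivOfLe hXD).toEquiv]
    exact CfsgLib.PLocal.not_dvd_iff_coprime.2 hX
  have hodd : Odd (Nat.card (↥D ⧸ O)) := hD.of_dvd_nat (card_quotient_dvd_card O)
  have hRX : X' ≤ R := by
    refine le_trans (fun y hy => mem_centralizer_iff.2 fun r hr => ?_) hC
    refine (commute_of_index_le_three (CfsgLib.PLocal.isPGroup_pCore q _) inf_le_left h3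
      (hodd.of_dvd_nat (orderOf_dvd_natCard y))
      (hX'.coprime_dvd_left (orderOf_dvd_natCard X' hy)) (fun a ha => ?_) r hr).eq.symm
    obtain ⟨hr, t, ht, rfl⟩ := ha
    obtain ⟨z, hz, rfl⟩ := hy
    have h1 : π t * π z * (π t)⁻¹ * (π z)⁻¹ ∈ R ⊓ X' := by
      refine ⟨?_, ?_⟩
      · rw [mul_assoc, mul_assoc, ← mul_assoc (π z)]
        exact mul_mem hr ((inferInstance : R.Normal).conj_mem _ (inv_mem hr) _)
      · refine ⟨t * z * t⁻¹ * z⁻¹, ?_, by simp [map_mul, map_inv]⟩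
        show ((t * z * t⁻¹ * z⁻¹ : ↥D) : G) ∈ X
        exact mul_mem (conj_normal_mem (hTX ht) hz) (inv_mem hz)
    rw [(CfsgLib.PLocal.disjoint_of_isPGroup_of_coprime (CfsgLib.PLocal.isPGroup_pCore q _) hX'),
      mem_bot, mul_inv_eq_one, mul_inv_eq_iff_eq_mul] at h1
    exact h1.symm
  have h2 : X' ≤ ⊥ := by
    rw [← CfsgLib.PLocal.disjoint_of_isPGroup_of_coprime
      (CfsgLib.PLocal.isPGroup_pCore q (↥D ⧸ O)) hX']
    exact le_inf hRX le_rfl
  intro x hx
  refine ⟨⟨x, hXD hx⟩, ?_, rfl⟩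
  exact (QuotientGroup.eq_one_iff (N := O) _).1
    (mem_bot.1 (h2 ⟨⟨x, hXD hx⟩, hx, rfl⟩))

end CfsgLib.BenderWorld.R2Kill
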